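import Groth.Prelude.Def_EtRam
import Mathlib.RingTheory.Valuation.Integral
import Mathlib.RingTheory.Valuation.LocalSubring
import Mathlib.RingTheory.PowerBasis
import Mathlib.RingTheory.DiscreteValuationRing.Basic

/-! # Eisenstein-type extensions of a discrete valuation ring are totally ramified -/

set_option autoImplicit false
set_option linter.style.haveILetI false

namespace Groth.Agent.Lib.Helper18.Eis

open IsLocalRing

universe u

section General

variable {L : Type u} [Field L]

/-- Integral elements lie in every valuation subring containing the base. -/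
theorem mem_of_isIntegral {A : Type*} [CommRing A] [Algebra A L] (V : ValuationSubring L)
    (hA : ∀ a : A, algebraMap A L a ∈ V) {x : L} (hx : IsIntegral A x) : x ∈ V := by
  obtain ⟨p, hpm, hp⟩ := hx
  let ι : A →+* V := (algebraMap A L).codRestrict V.toSubring hA
  have hint : IsIntegral V x := by
    refine ⟨p.map ι, hpm.map ι, ?_⟩
    rw [Polynomial.eval₂_map]
    exact hp
  have hv : V.valuation.Integers V :=
    { hom_inj := Subtype.val_injective
      map_le_one := fun a => V.valuation_le_one a
      exists_of_le_one := fun {r} hr => ⟨⟨r, (V.valuation_le_one_iff r).mp hr⟩, rfl⟩ }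
  exact (V.valuation_le_one_iff _).mp (hv.isIntegral_iff_v_le_one.mp hint)

/-- If the nonzero terms of a finite sum have pairwise distinct values, every term has value at most
the value of the sum. -/
theorem val_le_sum_of_distinct {Γ : Type*} [LinearOrderedCommGroupWithZero Γ] (v : Valuation L Γ)
    {ι : Type*} (s : Finset ι) (z : ι → L)
    (hdist : ∀ i ∈ s, ∀ j ∈ s, i ≠ j → z i ≠ 0 → z j ≠ 0 → v (z i) ≠ v (z j)) :
    ∀ i ∈ s, v (z i) ≤ v (∑ j ∈ s, z j) := by
  classical
  intro i hi
  obtain ⟨i₀, hi₀, hmax⟩ := Finset.exists_max_image s (fun j => v (z j)) ⟨i, hi⟩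
  rcases eq_or_ne (v (z i₀)) 0 with h0 | h0
  · have := hmax i hi
    simp only [h0] at this
    rw [le_zero_iff.mp this]
    exact zero_le'
  · have hz0 : z i₀ ≠ 0 := (Valuation.ne_zero_iff _).mp h0
    have hsum : v (∑ j ∈ s, z j) = v (z i₀) := by
      apply Valuation.map_sum_eq_of_lt _ hi₀
      intro j hj
      rw [Finset.mem_sdiff, Finset.mem_singleton] at hj
      rcases eq_or_ne (z j) 0 with hj0 | hj0
      · rw [hj0, map_zero]; exact zero_lt_iff.mpr h0
      · exact lt_of_le_of_ne (hmax j hj.1) (hdist j hj.1 i₀ hi₀ hj.2 hj0 hz0)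
    rw [hsum]; exact hmax i hi

end General

section TotRam

variable {A K L : Type u} [CommRing A] [IsDomain A] [IsDiscreteValuationRing A] [Field K]
  [Algebra A K] [IsFractionRing A K] [Field L] [Algebra K L] [Algebra A L] [IsScalarTower A K L]

include K in
variable (A K L) in
theorem algebraMap_injective' : Function.Injective (algebraMap A L) := by
  rw [IsScalarTower.algebraMap_eq A K L]
  exact (algebraMap K L).injective.comp (IsFractionRing.injective A K)

theorem val_unit (V : ValuationSubring L) (hV : EtRam.Dominates A (algebraMap A L) V) (u : Aˣ) :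
    V.valuation (algebraMap A L (u : A)) = 1 := by
  apply le_antisymm ((V.valuation_le_one_iff _).mpr (hV.1 _))
  have h2 : V.valuation (algebraMap A L ((u⁻¹ : Aˣ) : A)) ≤ 1 :=
    (V.valuation_le_one_iff _).mpr (hV.1 _)
  have h3 : algebraMap A L (u : A) * algebraMap A L ((u⁻¹ : Aˣ) : A) = 1 := by
    rw [← map_mul, Units.mul_inv, map_one]
  have h4 := congrArg V.valuation h3
  rw [map_mul, map_one] at h4
  by_contra hlt
  rw [not_le] at hlt
  exact absurd h4 (mul_lt_one_of_nonneg_of_lt_one_left zero_le' hlt h2).ne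

/-- Values of elements of `K` in a valuation ring of `L` dominating `A`. -/
theorem val_algebraMap_K (π : A) (hπ : maximalIdeal A = Ideal.span {π}) (V : ValuationSubring L)
    (hV : EtRam.Dominates A (algebraMap A L) V) {c : K} (hc : c ≠ 0) :
    ∃ m : ℤ, V.valuation (algebraMap K L c) = V.valuation (algebraMap A L π) ^ m ∧
      (0 ≤ m → c ∈ Set.range (algebraMap A K)) := by
  have hirr : Irreducible π := (IsDiscreteValuationRing.irreducible_iff_uniformizer π).mpr hπ
  obtain ⟨m, u, hu⟩ :=
    IsDiscreteValuationRing.exists_units_eq_smul_zpow_of_irreducible (K := K) hirr hc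
  refine ⟨m, ?_, ?_⟩
  · rw [hu, Units.smul_def, Algebra.smul_def, map_mul, map_zpow₀, map_mul, map_zpow₀,
      ← IsScalarTower.algebraMap_apply, ← IsScalarTower.algebraMap_apply, val_unit V hV u, one_mul]
  · intro hm
    obtain ⟨n, rfl⟩ := Int.eq_ofNat_of_zero_le hm
    refine ⟨u * π ^ n, ?_⟩
    rw [hu, map_mul, map_pow, Units.smul_def, Algebra.smul_def, zpow_natCast]

/-- The data of an Eisenstein-type generator: `θ ^ q = π (1 + π r)` with `θ`, `r` integral. -/
structure EisData (π : A) (pb : PowerBasis K L) (r : L) : Prop where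
  hπ : maximalIdeal A = Ideal.span {π}
  hθ : IsIntegral A pb.gen
  hr : IsIntegral A r
  hrel : pb.gen ^ pb.dim = algebraMap A L π * (1 + algebraMap A L π * r)

namespace EisData

variable {π : A} {pb : PowerBasis K L} {r : L} (h : EisData π pb r)
include h

theorem pi_mem : π ∈ maximalIdeal A := by rw [h.hπ]; exact Ideal.mem_span_singleton_self π

theorem pi_ne_zero : π ≠ 0 :=
  ((IsDiscreteValuationRing.irreducible_iff_uniformizer π).mpr h.hπ).ne_zero

theorem piL_ne_zero : algebraMap A L π ≠ 0 := fun h0 =>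
  h.pi_ne_zero (algebraMap_injective' A K L (h0.trans (map_zero _).symm))

theorem val_pi_lt (V : ValuationSubring L) (hV : EtRam.Dominates A (algebraMap A L) V) :
    V.valuation (algebraMap A L π) < 1 := hV.2 π h.pi_mem

theorem val_gen_le (V : ValuationSubring L) (hV : EtRam.Dominates A (algebraMap A L) V) :
    V.valuation pb.gen ≤ 1 := (V.valuation_le_one_iff _).mpr (mem_of_isIntegral V hV.1 h.hθ)

theorem val_one_add (V : ValuationSubring L) (hV : EtRam.Dominates A (algebraMap A L) V) :
    V.valuation (1 + algebraMap A L π * r) = 1 := by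
  have hrV : V.valuation r ≤ 1 := (V.valuation_le_one_iff _).mpr (mem_of_isIntegral V hV.1 h.hr)
  apply Valuation.map_one_add_of_lt
  rw [map_mul]
  exact mul_lt_one_of_nonneg_of_lt_one_left zero_le' (h.val_pi_lt V hV) hrV

theorem val_gen_pow (V : ValuationSubring L) (hV : EtRam.Dominates A (algebraMap A L) V) :
    V.valuation pb.gen ^ pb.dim = V.valuation (algebraMap A L π) := by
  rw [← map_pow, h.hrel, map_mul, h.val_one_add V hV, mul_one]

theorem val_gen_lt (V : ValuationSubring L) (hV : EtRam.Dominates A (algebraMap A L) V) :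
    V.valuation pb.gen < 1 := by
  refine lt_of_le_of_ne (h.val_gen_le V hV) ?_
  intro h1
  have := h.val_gen_pow V hV
  rw [h1, one_pow] at this
  exact absurd this.symm (h.val_pi_lt V hV).ne

theorem val_gen_ne_zero (V : ValuationSubring L) (hV : EtRam.Dominates A (algebraMap A L) V) :
    V.valuation pb.gen ≠ 0 := by
  intro h0
  have := h.val_gen_pow V hV
  rw [h0, zero_pow pb.dim_pos.ne'] at this
  exact (Valuation.ne_zero_iff _).mpr h.piL_ne_zero this.symm

theorem expand (x : L) :
    x = ∑ i : Fin pb.dim, algebraMap K L (pb.basis.repr x i) * pb.gen ^ (i : ℕ) := by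
  conv_lhs => rw [← pb.basis.sum_repr x]
  refine Finset.sum_congr rfl fun i _ => ?_
  rw [pb.basis_eq_pow, Algebra.smul_def]

theorem val_term (V : ValuationSubring L) (hV : EtRam.Dominates A (algebraMap A L) V)
    {c : K} (hc : c ≠ 0) (i : ℕ) :
    ∃ m : ℤ, V.valuation (algebraMap K L c * pb.gen ^ i) =
        V.valuation pb.gen ^ ((pb.dim : ℤ) * m + i) ∧
      (0 ≤ m → c ∈ Set.range (algebraMap A K)) := by
  obtain ⟨m, hm, hmA⟩ := val_algebraMap_K π h.hπ V hV hc
  refine ⟨m, ?_, hmA⟩
  rw [map_mul, hm, map_pow, ← h.val_gen_pow V hV, ← zpow_natCast (V.valuation pb.gen) pb.dim,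
    ← zpow_mul, ← zpow_natCast (V.valuation pb.gen) i, ← zpow_add₀ (h.val_gen_ne_zero V hV)]

/-- The valuation ring is determined by the coordinates in the power basis. -/
theorem mem_iff_repr_mem (V : ValuationSubring L) (hV : EtRam.Dominates A (algebraMap A L) V)
    (x : L) : x ∈ V ↔ ∀ i, pb.basis.repr x i ∈ Set.range (algebraMap A K) := by
  have hθpos : 0 < V.valuation pb.gen := zero_lt_iff.mpr (h.val_gen_ne_zero V hV)
  have hθlt := h.val_gen_lt V hV
  have hqpos : (0 : ℤ) < pb.dim := by exact_mod_cast pb.dim_pos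
  constructor
  · intro hxV i
    have hterm := val_le_sum_of_distinct V.valuation Finset.univ
      (fun i : Fin pb.dim => algebraMap K L (pb.basis.repr x i) * pb.gen ^ (i : ℕ)) ?_ i
      (Finset.mem_univ i)
    · rw [← h.expand x] at hterm
      have h1 : V.valuation (algebraMap K L (pb.basis.repr x i) * pb.gen ^ (i : ℕ)) ≤ 1 :=
        hterm.trans ((V.valuation_le_one_iff _).mpr hxV)
      by_cases hc : pb.basis.repr x i = 0
      · exact ⟨0, by rw [hc, map_zero]⟩
      obtain ⟨m, hm, hmA⟩ := h.val_term V hV hc i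
      apply hmA
      rw [hm, zpow_le_one_iff_right_of_lt_one₀ hθpos hθlt] at h1
      by_contra hneg
      rw [not_le] at hneg
      have hi : ((i : ℕ) : ℤ) < pb.dim := by exact_mod_cast i.2
      nlinarith [mul_le_mul_of_nonneg_left (show m ≤ -1 by omega) hqpos.le]
    · intro i _ j _ hij hzi hzj heq
      have hci : pb.basis.repr x i ≠ 0 := by
        intro h0; apply hzi; rw [h0, map_zero, zero_mul]
      have hcj : pb.basis.repr x j ≠ 0 := by
        intro h0; apply hzj; rw [h0, map_zero, zero_mul]
      obtain ⟨m, hm, -⟩ := h.val_term V hV hci i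
      obtain ⟨m', hm', -⟩ := h.val_term V hV hcj j
      rw [hm, hm'] at heq
      have heq' := zpow_right_injective₀ hθpos hθlt.ne heq
      have hi : ((i : ℕ) : ℤ) < pb.dim := by exact_mod_cast i.2
      have hj : ((j : ℕ) : ℤ) < pb.dim := by exact_mod_cast j.2
      have h1 : ((pb.dim : ℤ) * m + (i : ℕ)) % pb.dim = (i : ℕ) := by
        rw [add_comm, Int.add_mul_emod_self_left, Int.emod_eq_of_lt (by positivity) hi]
      have h2 : ((pb.dim : ℤ) * m' + (j : ℕ)) % pb.dim = (j : ℕ) := by
        rw [add_comm, Int.add_mul_emod_self_left, Int.emod_eq_of_lt (by positivity) hj]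
      rw [heq', h2] at h1
      exact hij (Fin.ext (by exact_mod_cast h1.symm))
  · intro hx
    rw [h.expand x]
    refine sum_mem fun i _ => ?_
    obtain ⟨a, ha⟩ := hx i
    rw [← ha, ← IsScalarTower.algebraMap_apply]
    exact mul_mem (hV.1 a) (pow_mem ((V.valuation_le_one_iff _).mp (h.val_gen_le V hV)) _)

/-- Elements of a dominating valuation ring are integral over `A`. -/
theorem isIntegral_of_mem (V : ValuationSubring L) (hV : EtRam.Dominates A (algebraMap A L) V)
    {x : L} (hx : x ∈ V) : IsIntegral A x := by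
  have hx' := (h.mem_iff_repr_mem V hV x).mp hx
  rw [h.expand x]
  refine IsIntegral.sum _ fun i _ => ?_
  obtain ⟨a, ha⟩ := hx' i
  rw [← ha, ← IsScalarTower.algebraMap_apply]
  exact IsIntegral.mul isIntegral_algebraMap (h.hθ.pow _)

end EisData

include K in
variable (A K L) in
/-- Some valuation subring of `L` dominates `A`. -/
theorem exists_dominates : ∃ V : ValuationSubring L, EtRam.Dominates A (algebraMap A L) V := by
  have hinj := algebraMap_injective' A K L
  let R : Subring L := (algebraMap A L).range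
  let φ : A →+* R := (algebraMap A L).rangeRestrict
  have hφinj : Function.Injective φ := fun a b hab => hinj (congrArg Subtype.val hab)
  have hφsurj : Function.Surjective φ := (algebraMap A L).rangeRestrict_surjective
  let I : Ideal R := (maximalIdeal A).map φ
  have hI : I ≠ ⊤ := by
    intro htop
    have h1 : (1 : R) ∈ I := by rw [htop]; trivial
    rw [Ideal.mem_map_iff_of_surjective φ hφsurj] at h1
    obtain ⟨a, ha, ha1⟩ := h1
    have : a = 1 := hφinj (ha1.trans (map_one φ).symm)
    rw [this] at ha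
    exact (Ideal.ne_top_iff_one _).mp (IsLocalRing.maximalIdeal.isMaximal A).ne_top ha
  obtain ⟨V, hRV, hIV⟩ := Ideal.image_subset_nonunits_valuationSubring I hI
  refine ⟨V, fun a => hRV ⟨a, rfl⟩, fun a ha => ?_⟩
  rw [← ValuationSubring.mem_nonunits_iff]
  exact hIV ⟨φ a, Ideal.mem_map_of_mem φ ha, rfl⟩

/-- An Eisenstein-type extension is totally ramified. -/
theorem EisData.isTotallyRamified {π : A} {pb : PowerBasis K L} {r : L} (h : EisData π pb r) :
    EtRam.IsTotallyRamified A (algebraMap A L) := by
  refine ⟨exists_dominates A K L, ?_, ?_⟩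
  · intro V V' hV hV'
    ext x
    rw [h.mem_iff_repr_mem V hV, h.mem_iff_repr_mem V' hV']
  · intro V hV y
    obtain ⟨⟨x, hxV⟩, rfl⟩ := IsLocalRing.residue_surjective y
    have hx := (h.mem_iff_repr_mem V hV x).mp hxV
    obtain ⟨a, ha⟩ := hx ⟨0, pb.dim_pos⟩
    refine ⟨a, ?_⟩
    show IsLocalRing.residue V (RingHom.codRestrict (algebraMap A L) V hV.1 a) =
      IsLocalRing.residue V ⟨x, hxV⟩
    rw [← sub_eq_zero, ← map_sub, IsLocalRing.residue_eq_zero_iff,
      ValuationSubring.valuation_lt_one_iff]
    have hcoe : ((RingHom.codRestrict (algebraMap A L) V hV.1 a - ⟨x, hxV⟩ : V) : L) =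
      algebraMap A L a - x := rfl
    rw [hcoe, ← Valuation.map_neg, neg_sub]
    classical
    have hsum : x - algebraMap A L a = ∑ i ∈ Finset.univ.erase (⟨0, pb.dim_pos⟩ : Fin pb.dim),
        algebraMap K L (pb.basis.repr x i) * pb.gen ^ (i : ℕ) := by
      rw [eq_comm, Finset.sum_erase_eq_sub (Finset.mem_univ _), ← h.expand x, ← ha, pow_zero,
        mul_one, ← IsScalarTower.algebraMap_apply]
    rw [hsum]
    apply Valuation.map_sum_lt _ one_ne_zero
    intro i hi
    have hi0 : (i : ℕ) ≠ 0 := fun h0 => (Finset.mem_erase.mp hi).1 (Fin.ext h0)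
    obtain ⟨b, hb⟩ := hx i
    rw [← hb, ← IsScalarTower.algebraMap_apply, map_mul, map_pow]
    calc V.valuation (algebraMap A L b) * V.valuation pb.gen ^ (i : ℕ)
        ≤ 1 * V.valuation pb.gen ^ (i : ℕ) :=
          mul_le_mul' ((V.valuation_le_one_iff _).mpr (hV.1 b)) le_rfl
      _ = V.valuation pb.gen ^ (i : ℕ) := one_mul _
      _ ≤ V.valuation pb.gen := pow_le_of_le_one zero_le' (h.val_gen_le V hV) hi0
      _ < 1 := h.val_gen_lt V hV

end TotRam

end Groth.Agent.Lib.Helper18.Eis
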