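import Groth.Prelude.Def_EtRam
import Mathlib.RingTheory.Valuation.Integral
import Mathlib.RingTheory.Valuation.LocalSubring
import Mathlib.RingTheory.PowerBasis
import Mathlib.RingTheory.DiscreteValuationRing.Basic
import Groth.Agent.Lib.Helper18.Eis.TotRam

/-! # Extensions with a generator whose `n`-th power has the value of a uniformiser are totally ramified -/

set_option autoImplicit false
set_option linter.style.haveILetI false

namespace Groth.Agent.Lib.Helper18.Eis

open IsLocalRing

universe u

section TotRam2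

variable {A K L : Type u} [CommRing A] [IsDomain A] [IsDiscreteValuationRing A] [Field K]
  [Algebra A K] [IsFractionRing A K] [Field L] [Algebra K L] [Algebra A L] [IsScalarTower A K L]

/-- The data: a power basis whose generator has, in every valuation ring dominating `A`, the
`dim`-th root of the value of the uniformiser. -/
structure EisVal (π : A) (pb : PowerBasis K L) : Prop where
  hπ : maximalIdeal A = Ideal.span {π}
  hval : ∀ V : ValuationSubring L, EtRam.Dominates A (algebraMap A L) V →
    V.valuation pb.gen ^ pb.dim = V.valuation (algebraMap A L π)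

namespace EisVal

variable {π : A} {pb : PowerBasis K L} (h : EisVal π pb)
include h

theorem pi_mem : π ∈ maximalIdeal A := by rw [h.hπ]; exact Ideal.mem_span_singleton_self π

theorem pi_ne_zero : π ≠ 0 :=
  ((IsDiscreteValuationRing.irreducible_iff_uniformizer π).mpr h.hπ).ne_zero

theorem piL_ne_zero : algebraMap A L π ≠ 0 := fun h0 =>
  h.pi_ne_zero (algebraMap_injective' A K L (h0.trans (map_zero _).symm))

theorem val_pi_lt (V : ValuationSubring L) (hV : EtRam.Dominates A (algebraMap A L) V) :
    V.valuation (algebraMap A L π) < 1 := hV.2 π h.pi_mem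

theorem val_gen_pow (V : ValuationSubring L) (hV : EtRam.Dominates A (algebraMap A L) V) :
    V.valuation pb.gen ^ pb.dim = V.valuation (algebraMap A L π) := h.hval V hV

theorem val_gen_lt (V : ValuationSubring L) (hV : EtRam.Dominates A (algebraMap A L) V) :
    V.valuation pb.gen < 1 := by
  by_contra hge
  rw [not_lt] at hge
  have : 1 ≤ V.valuation pb.gen ^ pb.dim := one_le_pow₀ hge
  rw [h.val_gen_pow V hV] at this
  exact absurd (h.val_pi_lt V hV) (not_lt.mpr this)

theorem val_gen_le (V : ValuationSubring L) (hV : EtRam.Dominates A (algebraMap A L) V) :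
    V.valuation pb.gen ≤ 1 := (h.val_gen_lt V hV).le

theorem val_gen_ne_zero (V : ValuationSubring L) (hV : EtRam.Dominates A (algebraMap A L) V) :
    V.valuation pb.gen ≠ 0 := by
  intro h0
  have := h.val_gen_pow V hV
  rw [h0, zero_pow pb.dim_pos.ne'] at this
  exact (Valuation.ne_zero_iff _).mpr h.piL_ne_zero this.symm

theorem expand (x : L) :
    x = ∑ i : Fin pb.dim, algebraMap K L (pb.basis.repr x i) * pb.gen ^ (i : ℕ) := by
  conv_lhs => rw [← pb.basis.sum_repr x]
  refine Finset.sum_congr rfl fun i _ => ?_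
  rw [pb.basis_eq_pow, Algebra.smul_def]

theorem val_term (V : ValuationSubring L) (hV : EtRam.Dominates A (algebraMap A L) V)
    {c : K} (hc : c ≠ 0) (i : ℕ) :
    ∃ m : ℤ, V.valuation (algebraMap K L c * pb.gen ^ i) =
        V.valuation pb.gen ^ ((pb.dim : ℤ) * m + i) ∧
      (0 ≤ m → c ∈ Set.range (algebraMap A K)) := by
  obtain ⟨m, hm, hmA⟩ := val_algebraMap_K π h.hπ V hV hc
  refine ⟨m, ?_, hmA⟩
  rw [map_mul, hm, map_pow, ← h.val_gen_pow V hV, ← zpow_natCast (V.valuation pb.gen) pb.dim,
    ← zpow_mul, ← zpow_natCast (V.valuation pb.gen) i, ← zpow_add₀ (h.val_gen_ne_zero V hV)]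

/-- The valuation ring is determined by the coordinates in the power basis. -/
theorem mem_iff_repr_mem (V : ValuationSubring L) (hV : EtRam.Dominates A (algebraMap A L) V)
    (x : L) : x ∈ V ↔ ∀ i, pb.basis.repr x i ∈ Set.range (algebraMap A K) := by
  have hθpos : 0 < V.valuation pb.gen := zero_lt_iff.mpr (h.val_gen_ne_zero V hV)
  have hθlt := h.val_gen_lt V hV
  have hqpos : (0 : ℤ) < pb.dim := by exact_mod_cast pb.dim_pos
  constructor
  · intro hxV i
    have hterm := val_le_sum_of_distinct V.valuation Finset.univ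
      (fun i : Fin pb.dim => algebraMap K L (pb.basis.repr x i) * pb.gen ^ (i : ℕ)) ?_ i
      (Finset.mem_univ i)
    · rw [← h.expand x] at hterm
      have h1 : V.valuation (algebraMap K L (pb.basis.repr x i) * pb.gen ^ (i : ℕ)) ≤ 1 :=
        hterm.trans ((V.valuation_le_one_iff _).mpr hxV)
      by_cases hc : pb.basis.repr x i = 0
      · exact ⟨0, by rw [hc, map_zero]⟩
      obtain ⟨m, hm, hmA⟩ := h.val_term V hV hc i
      apply hmA
      rw [hm, zpow_le_one_iff_right_of_lt_one₀ hθpos hθlt] at h1
      by_contra hneg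
      rw [not_le] at hneg
      have hi : ((i : ℕ) : ℤ) < pb.dim := by exact_mod_cast i.2
      nlinarith [mul_le_mul_of_nonneg_left (show m ≤ -1 by omega) hqpos.le]
    · intro i _ j _ hij hzi hzj heq
      have hci : pb.basis.repr x i ≠ 0 := by
        intro h0; apply hzi; rw [h0, map_zero, zero_mul]
      have hcj : pb.basis.repr x j ≠ 0 := by
        intro h0; apply hzj; rw [h0, map_zero, zero_mul]
      obtain ⟨m, hm, -⟩ := h.val_term V hV hci i
      obtain ⟨m', hm', -⟩ := h.val_term V hV hcj j
      rw [hm, hm'] at heq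
      have heq' := zpow_right_injective₀ hθpos hθlt.ne heq
      have hi : ((i : ℕ) : ℤ) < pb.dim := by exact_mod_cast i.2
      have hj : ((j : ℕ) : ℤ) < pb.dim := by exact_mod_cast j.2
      have h1 : ((pb.dim : ℤ) * m + (i : ℕ)) % pb.dim = (i : ℕ) := by
        rw [add_comm, Int.add_mul_emod_self_left, Int.emod_eq_of_lt (by positivity) hi]
      have h2 : ((pb.dim : ℤ) * m' + (j : ℕ)) % pb.dim = (j : ℕ) := by
        rw [add_comm, Int.add_mul_emod_self_left, Int.emod_eq_of_lt (by positivity) hj]
      rw [heq', h2] at h1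
      exact hij (Fin.ext (by exact_mod_cast h1.symm))
  · intro hx
    rw [h.expand x]
    refine sum_mem fun i _ => ?_
    obtain ⟨a, ha⟩ := hx i
    rw [← ha, ← IsScalarTower.algebraMap_apply]
    exact mul_mem (hV.1 a) (pow_mem ((V.valuation_le_one_iff _).mp (h.val_gen_le V hV)) _)

end EisVal

/-- An Eisenstein-type extension is totally ramified. -/
theorem EisVal.isTotallyRamified {π : A} {pb : PowerBasis K L} (h : EisVal π pb) :
    EtRam.IsTotallyRamified A (algebraMap A L) := by
  refine ⟨exists_dominates A K L, ?_, ?_⟩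
  · intro V V' hV hV'
    ext x
    rw [h.mem_iff_repr_mem V hV, h.mem_iff_repr_mem V' hV']
  · intro V hV y
    obtain ⟨⟨x, hxV⟩, rfl⟩ := IsLocalRing.residue_surjective y
    have hx := (h.mem_iff_repr_mem V hV x).mp hxV
    obtain ⟨a, ha⟩ := hx ⟨0, pb.dim_pos⟩
    refine ⟨a, ?_⟩
    show IsLocalRing.residue V (RingHom.codRestrict (algebraMap A L) V hV.1 a) =
      IsLocalRing.residue V ⟨x, hxV⟩
    rw [← sub_eq_zero, ← map_sub, IsLocalRing.residue_eq_zero_iff,
      ValuationSubring.valuation_lt_one_iff]
    have hcoe : ((RingHom.codRestrict (algebraMap A L) V hV.1 a - ⟨x, hxV⟩ : V) : L) =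
      algebraMap A L a - x := rfl
    rw [hcoe, ← Valuation.map_neg, neg_sub]
    classical
    have hsum : x - algebraMap A L a = ∑ i ∈ Finset.univ.erase (⟨0, pb.dim_pos⟩ : Fin pb.dim),
        algebraMap K L (pb.basis.repr x i) * pb.gen ^ (i : ℕ) := by
      rw [eq_comm, Finset.sum_erase_eq_sub (Finset.mem_univ _), ← h.expand x, ← ha, pow_zero,
        mul_one, ← IsScalarTower.algebraMap_apply]
    rw [hsum]
    apply Valuation.map_sum_lt _ one_ne_zero
    intro i hi
    have hi0 : (i : ℕ) ≠ 0 := fun h0 => (Finset.mem_erase.mp hi).1 (Fin.ext h0)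
    obtain ⟨b, hb⟩ := hx i
    rw [← hb, ← IsScalarTower.algebraMap_apply, map_mul, map_pow]
    calc V.valuation (algebraMap A L b) * V.valuation pb.gen ^ (i : ℕ)
        ≤ 1 * V.valuation pb.gen ^ (i : ℕ) :=
          mul_le_mul' ((V.valuation_le_one_iff _).mpr (hV.1 b)) le_rfl
      _ = V.valuation pb.gen ^ (i : ℕ) := one_mul _
      _ ≤ V.valuation pb.gen := pow_le_of_le_one zero_le' (h.val_gen_le V hV) hi0
      _ < 1 := h.val_gen_lt V hV


end TotRam2

end Groth.Agent.Lib.Helper18.Eis
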