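import Groth.Agent.Lib.Helper18.Eis.TotRam
import Mathlib.RingTheory.Polynomial.Eisenstein.Basic
import Mathlib.RingTheory.Polynomial.GaussLemma
import Mathlib.RingTheory.AdjoinRoot
import Mathlib.FieldTheory.Separable
import Mathlib.FieldTheory.SeparableDegree
import Mathlib.FieldTheory.IntermediateField.Adjoin.Algebra

/-! # A totally ramified separable extension of prescribed degree with a nice uniformizer -/

set_option autoImplicit false
set_option linter.style.haveILetI false

namespace Groth.Agent.Lib.Helper18.Eis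

open Polynomial IsLocalRing

universe u

section Poly

variable {A : Type u} [CommRing A] [IsDomain A] [IsDiscreteValuationRing A]

/-- The polynomial `X ^ q + π ^ n X - π`. -/
noncomputable def eisPoly (π : A) (n q : ℕ) : A[X] := X ^ q + (C (π ^ n) * X - C π)

theorem eisPoly_degree_lt (π : A) (n : ℕ) {q : ℕ} (hq : 2 ≤ q) :
    (C (π ^ n) * X - C π : A[X]).degree < q := by
  refine lt_of_le_of_lt (degree_sub_le _ _) ?_
  rw [max_lt_iff]
  constructor
  · refine lt_of_le_of_lt (degree_C_mul_X_le _) ?_
    exact_mod_cast (by omega : 1 < q)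
  · refine lt_of_le_of_lt degree_C_le ?_
    exact_mod_cast (by omega : 0 < q)

theorem eisPoly_monic (π : A) (n : ℕ) {q : ℕ} (hq : 2 ≤ q) : (eisPoly π n q).Monic :=
  monic_X_pow_add (eisPoly_degree_lt π n hq)

theorem eisPoly_natDegree (π : A) (n : ℕ) {q : ℕ} (hq : 2 ≤ q) : (eisPoly π n q).natDegree = q := by
  rw [eisPoly, natDegree_add_eq_left_of_degree_lt, natDegree_X_pow]
  rw [degree_X_pow]
  exact eisPoly_degree_lt π n hq

theorem eisPoly_coeff (π : A) (n : ℕ) {q : ℕ} (m : ℕ) (hm : m < q) :
    (eisPoly π n q).coeff m = (if m = 1 then π ^ n else 0) - (if m = 0 then π else 0) := by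
  rw [eisPoly, coeff_add, coeff_sub, coeff_X_pow, coeff_C_mul_X, coeff_C, if_neg hm.ne, zero_add]

theorem eisPoly_isEisensteinAt (π : A) (hπ : maximalIdeal A = Ideal.span {π}) {n : ℕ} (hn : 1 < n)
    {q : ℕ} (hq : 2 ≤ q) : (eisPoly π n q).IsEisensteinAt (maximalIdeal A) := by
  have hπmem : π ∈ maximalIdeal A := by rw [hπ]; exact Ideal.mem_span_singleton_self π
  refine (eisPoly_monic π n hq).isEisensteinAt_of_mem_of_notMem
    (IsLocalRing.maximalIdeal.isMaximal A).ne_top ?_ ?_
  · intro m hm
    rw [eisPoly_natDegree π n hq] at hm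
    rw [eisPoly_coeff π n m hm]
    refine sub_mem ?_ ?_
    · split_ifs
      · exact Ideal.pow_mem_of_mem _ hπmem n (by omega)
      · exact zero_mem _
    · split_ifs
      · exact hπmem
      · exact zero_mem _
  · rw [eisPoly_coeff π n 0 (by omega), if_neg (by omega), if_pos rfl, zero_sub, neg_mem_iff, hπ,
      Ideal.span_singleton_pow, Ideal.mem_span_singleton]
    intro hdvd
    have hirr : Irreducible π := (IsDiscreteValuationRing.irreducible_iff_uniformizer π).mpr hπ
    obtain ⟨c, hc⟩ := hdvd
    have h1 : π * 1 = π * (π * c) := by rw [mul_one, ← mul_assoc, ← sq]; exact hc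
    have h2 := mul_left_cancel₀ hirr.ne_zero h1
    exact hirr.not_isUnit (IsUnit.of_mul_eq_one c h2.symm)

theorem eisPoly_irreducible (π : A) (hπ : maximalIdeal A = Ideal.span {π}) {n : ℕ} (hn : 1 < n)
    {q : ℕ} (hq : 2 ≤ q) : Irreducible (eisPoly π n q) :=
  (eisPoly_isEisensteinAt π hπ hn hq).irreducible (IsLocalRing.maximalIdeal.isMaximal A).isPrime
    (eisPoly_monic π n hq).isPrimitive (by rw [eisPoly_natDegree π n hq]; omega)

end Poly

section Ext

variable {A K : Type u} [CommRing A] [IsDomain A] [IsDiscreteValuationRing A] [Field K]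
  [Algebra A K] [IsFractionRing A K]

/-- The construction, remembering that the uniformizer is a root of `eisPoly`. -/
theorem exists_ext_of_two_le_root (π : A) (hπ : maximalIdeal A = Ideal.span {π}) {n : ℕ}
    (hn : 1 < n) {q : ℕ} (hq : 2 ≤ q) :
    ∃ (L : Type u) (_ : Field L) (_ : Algebra K L) (_ : Algebra A L) (_ : IsScalarTower A K L),
      Module.finrank K L = q ∧ Algebra.IsSeparable K L ∧
      EtRam.IsTotallyRamified A (algebraMap A L) ∧
      ∃ πB b b' : L, πB ∈ integralClosure A L ∧ b ∈ integralClosure A L ∧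
        b' ∈ integralClosure A L ∧
        πB ^ q = algebraMap A L π + algebraMap A L π ^ n * b ∧
        πB ^ q = algebraMap A L π + πB ^ (n * q) * b' ∧
        Polynomial.aeval πB (eisPoly π n q) = 0 := by
  obtain ⟨n', rfl⟩ : ∃ n', n = n' + 2 := ⟨n - 2, by omega⟩
  set fA := eisPoly π (n' + 2) q with hfA
  set f : K[X] := fA.map (algebraMap A K) with hf
  have hmonA : fA.Monic := eisPoly_monic π (n' + 2) hq
  have hmon : f.Monic := hmonA.map _
  have hirr : Irreducible f :=
    (Monic.irreducible_iff_irreducible_map_fraction_map hmonA).mp (eisPoly_irreducible π hπ hn hq)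
  haveI : Fact (Irreducible f) := ⟨hirr⟩
  have hf0 : f ≠ 0 := hirr.ne_zero
  have hdeg : f.natDegree = q := by rw [hf, hmonA.natDegree_map, eisPoly_natDegree π (n' + 2) hq]
  let pb : PowerBasis K (AdjoinRoot f) := AdjoinRoot.powerBasis hf0
  have hpbdim : pb.dim = q := by rw [AdjoinRoot.powerBasis_dim, hdeg]
  have hpbgen : pb.gen = AdjoinRoot.root f := AdjoinRoot.powerBasis_gen hf0
  set θ : AdjoinRoot f := AdjoinRoot.root f with hθ
  set P : AdjoinRoot f := algebraMap A (AdjoinRoot f) π with hP
  have haeval : Polynomial.aeval θ fA = 0 := by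
    have h1 : Polynomial.aeval θ f = 0 := by rw [AdjoinRoot.aeval_eq, AdjoinRoot.mk_self]
    exact (Polynomial.aeval_map_algebraMap K θ fA).symm.trans h1
  have hroot : θ ^ q + P ^ (n' + 2) * θ - P = 0 := by
    rw [← haeval, hfA, eisPoly]
    simp only [map_add, map_sub, map_mul, map_pow, aeval_X, aeval_C, hP]
    ring
  have hθint : IsIntegral A θ := ⟨fA, hmonA, by rw [← Polynomial.aeval_def]; exact haeval⟩
  set r : AdjoinRoot f := -(P ^ n' * θ) with hr
  have hrint : IsIntegral A r :=
    (IsIntegral.mul (isIntegral_algebraMap.pow _) hθint).neg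
  have hE : EisData π pb r := by
    refine ⟨hπ, by rw [hpbgen]; exact hθint, hrint, ?_⟩
    rw [hpbgen, hpbdim, hr]
    linear_combination hroot
  refine ⟨AdjoinRoot f, inferInstance, inferInstance, inferInstance, inferInstance,
    pb.finrank.trans hpbdim, ?_, hE.isTotallyRamified, ?_⟩
  · -- separability
    have hirrπ : Irreducible π := (IsDiscreteValuationRing.irreducible_iff_uniformizer π).mpr hπ
    have hder : derivative f ≠ 0 := by
      intro h0
      have h1 : (derivative f).coeff 0 = 0 := by rw [h0, coeff_zero]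
      rw [coeff_derivative, hf, coeff_map, eisPoly_coeff π (n' + 2) 1 (by omega), if_pos rfl,
        if_neg one_ne_zero, sub_zero, Nat.cast_zero, zero_add, mul_one] at h1
      have h2 : π ^ (n' + 2) = 0 := IsFractionRing.injective A K (h1.trans (map_zero _).symm)
      exact hirrπ.ne_zero (pow_eq_zero_iff (by omega) |>.mp h2)
    have hsepf : f.Separable := (separable_iff_derivative_ne_zero hirr).mpr hder
    have hsepθ : IsSeparable K θ := by
      unfold IsSeparable
      rw [AdjoinRoot.minpoly_root hf0, hmon.leadingCoeff, inv_one, C_1, mul_one]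
      exact hsepf
    haveI : Algebra.IsSeparable K (IntermediateField.adjoin K ({θ} : Set (AdjoinRoot f))) :=
      (IntermediateField.isSeparable_adjoin_simple_iff_isSeparable K _).mpr hsepθ
    have htop : IntermediateField.adjoin K ({θ} : Set (AdjoinRoot f)) = ⊤ := by
      apply IntermediateField.toSubalgebra_injective
      rw [IntermediateField.top_toSubalgebra, eq_top_iff, ← AdjoinRoot.adjoinRoot_eq_top]
      exact IntermediateField.algebra_adjoin_le_adjoin K _
    exact AlgEquiv.Algebra.isSeparable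
      ((IntermediateField.equivOfEq htop).trans IntermediateField.topEquiv)
  · obtain ⟨V, hV⟩ := exists_dominates A K (AdjoinRoot f)
    set w : AdjoinRoot f := 1 + P * r with hw
    have hvw : V.valuation w = 1 := hE.val_one_add V hV
    have hw0 : w ≠ 0 := by
      intro h0; rw [h0, map_zero] at hvw; exact zero_ne_one hvw
    have hθq : θ ^ q = P * w := by have := hE.hrel; rwa [hpbgen, hpbdim] at this
    refine ⟨θ, -θ, -θ * (w⁻¹) ^ (n' + 2), hθint, hθint.neg, ?_, ?_, ?_, haeval⟩
    · apply hE.isIntegral_of_mem V hV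
      rw [← V.valuation_le_one_iff, map_mul, Valuation.map_neg, map_pow, map_inv₀, hvw, inv_one,
        one_pow, mul_one]
      have := hE.val_gen_le V hV; rwa [hpbgen] at this
    · linear_combination hroot
    · rw [mul_comm (n' + 2) q, pow_mul, hθq]
      have hcancel : w ^ (n' + 2) * (w⁻¹) ^ (n' + 2) = 1 := by
        rw [← mul_pow, mul_inv_cancel₀ hw0, one_pow]
      have h3 : (P * w) ^ (n' + 2) * (-θ * w⁻¹ ^ (n' + 2)) = -(P ^ (n' + 2) * θ) := by
        calc (P * w) ^ (n' + 2) * (-θ * w⁻¹ ^ (n' + 2))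
            = P ^ (n' + 2) * (w ^ (n' + 2) * w⁻¹ ^ (n' + 2)) * (-θ) := by ring
          _ = -(P ^ (n' + 2) * θ) := by rw [hcancel]; ring
      rw [h3, hw, hr]; ring

theorem exists_ext_of_two_le (π : A) (hπ : maximalIdeal A = Ideal.span {π}) {n : ℕ} (hn : 1 < n)
    {q : ℕ} (hq : 2 ≤ q) :
    ∃ (L : Type u) (_ : Field L) (_ : Algebra K L) (_ : Algebra A L) (_ : IsScalarTower A K L),
      Module.finrank K L = q ∧ Algebra.IsSeparable K L ∧
      EtRam.IsTotallyRamified A (algebraMap A L) ∧
      ∃ πB b b' : L, πB ∈ integralClosure A L ∧ b ∈ integralClosure A L ∧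
        b' ∈ integralClosure A L ∧
        πB ^ q = algebraMap A L π + algebraMap A L π ^ n * b ∧
        πB ^ q = algebraMap A L π + πB ^ (n * q) * b' := by
  obtain ⟨L, i1, i2, i3, i4, h1, h2, h3, πB, b, b', h4, h5, h6, h7, h8, -⟩ :=
    exists_ext_of_two_le_root (K := K) π hπ hn hq
  exact ⟨L, i1, i2, i3, i4, h1, h2, h3, πB, b, b', h4, h5, h6, h7, h8⟩

variable (K) in
theorem exists_ext_one (π : A) (hπ : maximalIdeal A = Ideal.span {π}) (n : ℕ) :
    ∃ (L : Type u) (_ : Field L) (_ : Algebra K L) (_ : Algebra A L) (_ : IsScalarTower A K L),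
      Module.finrank K L = 1 ∧ Algebra.IsSeparable K L ∧
      EtRam.IsTotallyRamified A (algebraMap A L) ∧
      ∃ πB b b' : L, πB ∈ integralClosure A L ∧ b ∈ integralClosure A L ∧
        b' ∈ integralClosure A L ∧
        πB ^ 1 = algebraMap A L π + algebraMap A L π ^ n * b ∧
        πB ^ 1 = algebraMap A L π + πB ^ (n * 1) * b' := by
  let pb : PowerBasis K K :=
    { gen := algebraMap A K π
      dim := 1
      basis := Module.Basis.singleton (Fin 1) K
      basis_eq_pow := fun i => by
        rw [Module.Basis.singleton_apply, Fin.fin_one_eq_zero i, Fin.val_zero, pow_zero] }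
  have hE : EisData π pb (0 : K) := by
    refine ⟨hπ, isIntegral_algebraMap, isIntegral_zero, ?_⟩
    show algebraMap A K π ^ 1 = algebraMap A K π * (1 + algebraMap A K π * 0)
    ring
  refine ⟨K, inferInstance, inferInstance, inferInstance, inferInstance, Module.finrank_self K,
    inferInstance, hE.isTotallyRamified, algebraMap A K π, 0, 0, isIntegral_algebraMap,
    isIntegral_zero, isIntegral_zero, ?_, ?_⟩
  · ring
  · ring

theorem exists_ext (p : ℕ) (hp : p.Prime) (π : A) (hπ : maximalIdeal A = Ideal.span {π})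
    {n : ℕ} (hn : 1 < n) (k : ℕ) :
    ∃ (L : Type u) (_ : Field L) (_ : Algebra K L) (_ : Algebra A L) (_ : IsScalarTower A K L),
      Module.finrank K L = p ^ k ∧ Algebra.IsSeparable K L ∧
      EtRam.IsTotallyRamified A (algebraMap A L) ∧
      ∃ πB b b' : L, πB ∈ integralClosure A L ∧ b ∈ integralClosure A L ∧
        b' ∈ integralClosure A L ∧
        πB ^ (p ^ k) = algebraMap A L π + algebraMap A L π ^ n * b ∧
        πB ^ (p ^ k) = algebraMap A L π + πB ^ (n * p ^ k) * b' := by
  rcases Nat.eq_zero_or_pos k with rfl | hk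
  · rw [pow_zero]
    exact exists_ext_one K π hπ n
  · have hq : 2 ≤ p ^ k := by
      calc 2 ≤ p := hp.two_le
        _ = p ^ 1 := (pow_one p).symm
        _ ≤ p ^ k := Nat.pow_le_pow_right hp.pos hk
    exact exists_ext_of_two_le π hπ hn hq

end Ext

end Groth.Agent.Lib.Helper18.Eis
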