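import Mathlib
import Groth.Prelude.Def_EtRam
import Groth.Agent.Lib.Helper18.Eis.TotRam2

/-! # More on `EisVal`: construction from a valuation condition, the uniformizer property -/

set_option autoImplicit false
set_option linter.style.haveILetI false

namespace Groth.Agent.Lib.Helper18.Eis

open IsLocalRing IntermediateField

universe u

variable {A K L : Type u} [CommRing A] [IsDomain A] [IsDiscreteValuationRing A] [Field K]
  [Algebra A K] [IsFractionRing A K] [Field L] [Algebra K L] [Algebra A L] [IsScalarTower A K L]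

/-- Every element of the dominating valuation ring is an element of `A` plus a multiple of the
generator. -/
theorem EisVal.exists_eq_add_mul {π : A} {pb : PowerBasis K L} (h : EisVal π pb)
    (V : ValuationSubring L) (hV : EtRam.Dominates A (algebraMap A L) V) (x : L) (hx : x ∈ V) :
    ∃ a : A, ∃ x' ∈ V, x = algebraMap A L a + pb.gen * x' := by
  classical
  have hrepr := (h.mem_iff_repr_mem V hV x).mp hx
  choose a ha using hrepr
  have hgenV : pb.gen ∈ V := (V.valuation_le_one_iff _).mp (h.val_gen_le V hV)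
  set i₀ : Fin pb.dim := ⟨0, pb.dim_pos⟩ with hi₀
  refine ⟨a i₀, ∑ i ∈ Finset.univ.erase i₀, algebraMap A L (a i) * pb.gen ^ ((i : ℕ) - 1), ?_, ?_⟩
  · refine sum_mem fun i _ => ?_
    exact mul_mem (hV.1 _) (pow_mem hgenV _)
  · have hexp := h.expand x
    rw [← Finset.add_sum_erase Finset.univ _ (Finset.mem_univ i₀)] at hexp
    rw [hexp, Finset.mul_sum]
    congr 1
    · rw [← ha i₀, hi₀, pow_zero, mul_one, ← IsScalarTower.algebraMap_apply]
    · refine Finset.sum_congr rfl fun i hi => ?_
      have hi0 : (i : ℕ) ≠ 0 := fun h0 => (Finset.mem_erase.mp hi).1 (Fin.ext h0)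
      obtain ⟨k, hk⟩ : ∃ k, (i : ℕ) = k + 1 := ⟨(i : ℕ) - 1, by omega⟩
      rw [← ha i, ← IsScalarTower.algebraMap_apply, hk, Nat.add_sub_cancel, pow_succ]
      ring

/-- An element whose `p`-th power has the value of a uniformizer, in an extension of prime degree
`p`, gives an `EisVal` structure. -/
theorem exists_eisVal_of_val {p : ℕ} (hp : p.Prime) [FiniteDimensional K L]
    (hdeg : Module.finrank K L = p) (π : A)
    (hπ : maximalIdeal A = Ideal.span {π}) (θ : L)
    (hvalθ : ∀ V : ValuationSubring L, EtRam.Dominates A (algebraMap A L) V →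
      V.valuation θ ^ p = V.valuation (algebraMap A L π)) :
    ∃ pb : PowerBasis K L, pb.gen = θ ∧ pb.dim = p ∧ EisVal π pb ∧ K⟮θ⟯ = ⊤ := by
  have hp1 := hp.one_lt
  have hirr : Irreducible π := (IsDiscreteValuationRing.irreducible_iff_uniformizer π).mpr hπ
  have hπmem : π ∈ maximalIdeal A := by rw [hπ]; exact Ideal.mem_span_singleton_self π
  have hπL0 : algebraMap A L π ≠ 0 := fun h0 =>
    hirr.ne_zero (algebraMap_injective' A K L (h0.trans (map_zero _).symm))
  obtain ⟨V₀, hV₀⟩ := exists_dominates A K L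
  have hθ0 : θ ≠ 0 := by
    intro h0
    have := hvalθ V₀ hV₀
    rw [h0, map_zero, zero_pow hp.ne_zero] at this
    exact (Valuation.ne_zero_iff _).mpr hπL0 this.symm
  have hθnot : θ ∉ Set.range (algebraMap K L) := by
    rintro ⟨c, hc⟩
    have hc0 : c ≠ 0 := by
      intro h0; rw [h0, map_zero] at hc; exact hθ0 hc.symm
    obtain ⟨m, hm, -⟩ := val_algebraMap_K π hπ V₀ hV₀ hc0
    have h1 := hvalθ V₀ hV₀
    rw [← hc, hm, ← zpow_natCast, ← zpow_mul] at h1
    have hπv0 : 0 < V₀.valuation (algebraMap A L π) :=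
      zero_lt_iff.mpr ((Valuation.ne_zero_iff _).mpr hπL0)
    have hπlt : V₀.valuation (algebraMap A L π) < 1 := hV₀.2 π hπmem
    have h2 : m * (p : ℤ) = 1 := by
      apply zpow_right_injective₀ hπv0 hπlt.ne
      simp only
      rw [h1, zpow_one]
    have h3 : ((p : ℤ)) ∣ 1 := ⟨m, by rw [← h2]; ring⟩
    have h4 : (p : ℤ) ≤ 1 := Int.le_of_dvd one_pos h3
    omega
  haveI : IsSimpleOrder (IntermediateField K L) :=
    isSimpleOrder_of_finrank_prime K L (by rw [hdeg]; exact hp)
  have htop : K⟮θ⟯ = ⊤ := by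
    rcases eq_bot_or_eq_top K⟮θ⟯ with h | h
    · exfalso
      have : θ ∈ (⊥ : IntermediateField K L) := by rw [← h]; exact mem_adjoin_simple_self K θ
      exact hθnot (IntermediateField.mem_bot.mp this)
    · exact h
  have hθint : IsIntegral K θ := Algebra.IsIntegral.isIntegral θ
  have htop' : Algebra.adjoin K {θ} = ⊤ := by
    have h1 := adjoin_simple_toSubalgebra_of_isAlgebraic hθint.isAlgebraic
    rw [htop] at h1
    exact h1.symm
  set pb : PowerBasis K L := PowerBasis.ofAdjoinEqTop hθint htop' with hpb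
  have hdim : pb.dim = p := by rw [← pb.finrank, hdeg]
  have hgen : pb.gen = θ := by rw [hpb, PowerBasis.ofAdjoinEqTop_gen]
  refine ⟨pb, hgen, hdim, ?_, htop⟩
  exact
    { hπ := hπ
      hval := by
        intro V hV
        rw [hdim, hgen]
        exact hvalθ V hV }

end Groth.Agent.Lib.Helper18.Eis
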