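import Groth.Agent.Lib.Helper18.Eis.ValData
import Mathlib.RingTheory.DedekindDomain.IntegralClosure
import Mathlib.RingTheory.DiscreteValuationRing.TFAE
import Mathlib.RingTheory.Nakayama
import Mathlib.RingTheory.Polynomial.Basic

/-! # Structure of a totally ramified finite separable extension of the fraction field of a DVR -/

set_option autoImplicit false
set_option linter.style.haveILetI false

namespace Groth.Agent.Lib.Helper18.Eis

open IsLocalRing

universe u

variable {A K K₁ : Type u} [CommRing A] [IsDomain A] [IsDiscreteValuationRing A] [Field K]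
  [Algebra A K] [IsFractionRing A K] [Field K₁] [Algebra K K₁] [Algebra A K₁]
  [IsScalarTower A K K₁]

/-- A valuation subring of an algebraic extension of `K` containing `A` and different from the
whole field dominates `A`. -/
theorem dominates_of_ne_top [Algebra.IsAlgebraic K K₁] (V' : ValuationSubring K₁)
    (hA : ∀ a : A, algebraMap A K₁ a ∈ V') (hne : V' ≠ ⊤) :
    EtRam.Dominates A (algebraMap A K₁) V' := by
  refine ⟨hA, fun a ha => ?_⟩
  by_contra hnot
  apply hne
  rw [eq_top_iff]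
  intro x _
  have hinj := algebraMap_injective' A K K₁
  have ha0 : a ≠ 0 := by
    rintro rfl
    apply hnot
    rw [map_zero, map_zero]
    exact zero_lt_one
  have haL0 : algebraMap A K₁ a ≠ 0 := fun h0 => ha0 (hinj (h0.trans (map_zero _).symm))
  have hva : V'.valuation (algebraMap A K₁ a) = 1 :=
    le_antisymm ((V'.valuation_le_one_iff _).mpr (hA a)) (not_lt.mp hnot)
  have hainv : (algebraMap A K₁ a)⁻¹ ∈ V' := by
    rw [← V'.valuation_le_one_iff, map_inv₀, hva, inv_one]
  obtain ⟨π, hπirr⟩ := IsDiscreteValuationRing.exists_irreducible A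
  have hπ : maximalIdeal A = Ideal.span {π} := hπirr.maximalIdeal_eq
  have hπa : π ∣ a := by
    rw [hπ] at ha
    exact Ideal.mem_span_singleton.mp ha
  have hK : ∀ c : K, algebraMap K K₁ c ∈ V' := by
    intro c
    obtain ⟨x, y, hy, rfl⟩ := IsFractionRing.div_surjective (A := A) c
    have hy0 : y ≠ 0 := nonZeroDivisors.ne_zero hy
    obtain ⟨s, u, hu⟩ := IsDiscreteValuationRing.eq_unit_mul_pow_irreducible hy0 hπirr
    have hdvd : y ∣ a ^ s := by
      have h1 : π ^ s ∣ a ^ s := pow_dvd_pow_of_dvd hπa s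
      obtain ⟨z, hz⟩ := h1
      refine ⟨((u⁻¹ : Aˣ) : A) * z, ?_⟩
      rw [hu, hz]
      calc π ^ s * z = ((u : A) * ((u⁻¹ : Aˣ) : A)) * (π ^ s * z) := by
            rw [Units.mul_inv, one_mul]
        _ = (u : A) * π ^ s * (((u⁻¹ : Aˣ) : A) * z) := by ring
    obtain ⟨z, hz⟩ := hdvd
    have hyL0 : algebraMap A K₁ y ≠ 0 := fun h0 => hy0 (hinj (h0.trans (map_zero _).symm))
    have h2 : algebraMap K K₁ (algebraMap A K x / algebraMap A K y) =
        algebraMap A K₁ x * algebraMap A K₁ z * ((algebraMap A K₁ a)⁻¹) ^ s := by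
      have hYZ : algebraMap A K₁ y * algebraMap A K₁ z = (algebraMap A K₁ a) ^ s := by
        rw [← map_mul, ← hz, map_pow]
      have hzL0 : algebraMap A K₁ z ≠ 0 := by
        have : algebraMap A K₁ y * algebraMap A K₁ z ≠ 0 := by
          rw [hYZ]; exact pow_ne_zero _ haL0
        exact right_ne_zero_of_mul this
      rw [map_div₀, ← IsScalarTower.algebraMap_apply, ← IsScalarTower.algebraMap_apply, inv_pow,
        ← hYZ]
      field_simp
    rw [h2]
    exact mul_mem (mul_mem (hA x) (hA z)) (pow_mem hainv s)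
  exact mem_of_isIntegral V' hK (Algebra.IsIntegral.isIntegral x)

/-- Integrality over the range of `A` is integrality over `A`. -/
theorem isIntegral_of_isIntegral_closure_range {x : K₁} {s : Set K₁}
    (hs : s = Set.range (algebraMap A K₁)) (hint : IsIntegral (Subring.closure s) x) :
    IsIntegral A x := by
  obtain ⟨p, hpm, hpx⟩ := hint
  let φ : A →+* Subring.closure s :=
    (algebraMap A K₁).codRestrict _ (fun a => Subring.subset_closure (hs ▸ ⟨a, rfl⟩))
  have hφ : Function.Surjective φ := by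
    rintro ⟨y, hy⟩
    have hcl : Subring.closure s = (algebraMap A K₁).range := by
      rw [hs, ← RingHom.coe_range, Subring.closure_eq]
    rw [hcl] at hy
    obtain ⟨a, rfl⟩ := hy
    exact ⟨a, rfl⟩
  obtain ⟨q₀, hq₀⟩ := Polynomial.map_surjective φ hφ p
  obtain ⟨q, hq, -, hqm⟩ :=
    Polynomial.lifts_and_degree_eq_and_monic ((Polynomial.mem_lifts p).mpr ⟨q₀, hq₀⟩) hpm
  refine ⟨q, hqm, ?_⟩
  have h1 : (algebraMap A K₁) = (algebraMap (Subring.closure s) K₁).comp φ := rfl
  rw [h1, ← Polynomial.eval₂_map, hq]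
  exact hpx

/-- The unique valuation ring of a totally ramified extension is the integral closure. -/
theorem mem_iff_isIntegral [Algebra.IsAlgebraic K K₁]
    (ht : EtRam.IsTotallyRamified A (algebraMap A K₁))
    (V₁ : ValuationSubring K₁) (hV₁ : EtRam.Dominates A (algebraMap A K₁) V₁) (x : K₁) :
    x ∈ V₁ ↔ IsIntegral A x := by
  constructor
  · intro hx
    obtain ⟨s, hs⟩ : ∃ s : Set K₁, s = Set.range (algebraMap A K₁) := ⟨_, rfl⟩
    have hmem : x ∈ (⨅ V : {V : ValuationSubring K₁ // s ⊆ V.toSubring}, V.1.toSubring) := by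
      rw [Subring.mem_iInf]
      rintro ⟨V, hV⟩
      change x ∈ V
      by_cases htop : V = ⊤
      · rw [htop]; trivial
      · have hdom := dominates_of_ne_top (A := A) (K := K) V (fun a => hV (hs ▸ ⟨a, rfl⟩)) htop
        rw [ht.2.1 V V₁ hdom hV₁]; exact hx
    rw [iInf_valuationSubring_superset] at hmem
    exact isIntegral_of_isIntegral_closure_range hs hmem
  · exact mem_of_isIntegral V₁ hV₁.1

section Struct

variable [FiniteDimensional K K₁] [Algebra.IsSeparable K K₁]

/-- Finite expansions in powers of a uniformizer. -/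
theorem exists_expansion {C : Type*} [CommRing C] [Algebra A C] (ϖ : C)
    (hres : ∀ y : C, ∃ a : A, ∃ y' : C, y = algebraMap A C a + ϖ * y') (j : ℕ) (y : C) :
    ∃ (a : ℕ → A) (y' : C), y = ∑ i ∈ Finset.range j, algebraMap A C (a i) * ϖ ^ i + ϖ ^ j * y' := by
  induction j with
  | zero => exact ⟨fun _ => 0, y, by simp⟩
  | succ j ih =>
    obtain ⟨a, y', hy⟩ := ih
    obtain ⟨b, y'', hy'⟩ := hres y'
    refine ⟨fun i => if i = j then b else a i, y'', ?_⟩
    rw [Finset.sum_range_succ]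
    simp only [if_pos]
    rw [hy, hy']
    have : ∑ i ∈ Finset.range j, algebraMap A C (if i = j then b else a i) * ϖ ^ i =
        ∑ i ∈ Finset.range j, algebraMap A C (a i) * ϖ ^ i := by
      refine Finset.sum_congr rfl fun i hi => ?_
      rw [if_neg (Finset.mem_range.mp hi).ne]
    rw [this]
    ring

theorem exists_uniformizer_data (ht : EtRam.IsTotallyRamified A (algebraMap A K₁)) (π : A)
    (hπ : maximalIdeal A = Ideal.span {π}) :
    ∃ (π₁ w₀ : K₁), IsIntegral A π₁ ∧ IsIntegral A w₀ ∧ IsIntegral A w₀⁻¹ ∧ w₀ ≠ 0 ∧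
      π₁ ^ (Module.finrank K K₁) = algebraMap A K₁ π * w₀ ∧
      ∀ x : K₁, ∃ c : Fin (Module.finrank K K₁) → K,
        x = ∑ i, algebraMap K K₁ (c i) * π₁ ^ (i : ℕ) := by
  obtain ⟨V₁, hV₁⟩ := ht.1
  have hmem := mem_iff_isIntegral (K := K) ht V₁ hV₁
  have hinj := algebraMap_injective' A K K₁
  have hπirr : Irreducible π := (IsDiscreteValuationRing.irreducible_iff_uniformizer π).mpr hπ
  have hπmem : π ∈ maximalIdeal A := by rw [hπ]; exact Ideal.mem_span_singleton_self π
  set C := integralClosure A K₁ with hC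
  haveI hfin : Module.Finite A C := IsIntegralClosure.finite A K K₁ C
  haveI hded : IsDedekindDomain C := integralClosure.isDedekindDomain A K K₁
  have hnonunit : ∀ y : C, ¬ IsUnit y ↔ V₁.valuation (y : K₁) < 1 := by
    intro y
    constructor
    · intro hnu
      by_contra hge
      rw [not_lt] at hge
      have h1 : V₁.valuation (y : K₁) = 1 :=
        le_antisymm ((V₁.valuation_le_one_iff _).mpr ((hmem _).mpr y.2)) hge
      have hy0 : (y : K₁) ≠ 0 := by
        intro h0; rw [h0, map_zero] at h1; exact zero_ne_one h1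
      have hinv : (y : K₁)⁻¹ ∈ V₁ := by
        rw [← V₁.valuation_le_one_iff, map_inv₀, h1, inv_one]
      apply hnu
      exact IsUnit.of_mul_eq_one (⟨(y : K₁)⁻¹, (hmem _).mp hinv⟩ : C)
        (Subtype.ext (mul_inv_cancel₀ hy0))
    · intro hlt hu
      obtain ⟨z, hz⟩ := hu.exists_right_inv
      have h1 : (y : K₁) * (z : K₁) = 1 := congrArg Subtype.val hz
      have h2 := congrArg V₁.valuation h1
      rw [map_mul, map_one] at h2
      have hz1 : V₁.valuation (z : K₁) ≤ 1 :=
        (V₁.valuation_le_one_iff _).mpr ((hmem _).mpr z.2)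
      exact absurd h2 (mul_lt_one_of_nonneg_of_lt_one_left zero_le' hlt hz1).ne
  haveI : IsLocalRing C := IsLocalRing.of_nonunits_add (by
    intro a b ha hb
    rw [mem_nonunits_iff, hnonunit] at ha hb ⊢
    exact lt_of_le_of_lt (V₁.valuation.map_add _ _) (max_lt ha hb))
  -- `π` in `C`
  set πC : C := algebraMap A C π with hπC
  have hπCval : (πC : K₁) = algebraMap A K₁ π := rfl
  have hπC0 : πC ≠ 0 := by
    intro h0
    have : algebraMap A K₁ π = 0 := by rw [← hπCval, h0]; rfl
    exact hπirr.ne_zero (hinj (this.trans (map_zero _).symm))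
  have hπCnu : ¬ IsUnit πC := (hnonunit πC).mpr (hV₁.2 π hπmem)
  have hnf : ¬ IsField C := fun hf => hπCnu (by
    obtain ⟨z, hz⟩ := hf.mul_inv_cancel hπC0
    exact IsUnit.of_mul_eq_one z hz)
  haveI : IsDiscreteValuationRing C := ((IsDiscreteValuationRing.TFAE C hnf).out 2 0).mp hded
  obtain ⟨ϖ, hϖ⟩ := IsDiscreteValuationRing.exists_irreducible C
  obtain ⟨e, u, hu⟩ := IsDiscreteValuationRing.eq_unit_mul_pow_irreducible hπC0 hϖ
  have hmax : maximalIdeal C = Ideal.span {ϖ} := hϖ.maximalIdeal_eq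
  have hres : ∀ y : C, ∃ a : A, ∃ y' : C, y = algebraMap A C a + ϖ * y' := by
    intro y
    have hyV : (y : K₁) ∈ V₁ := (hmem _).mpr y.2
    obtain ⟨a, ha⟩ := ht.2.2 V₁ hV₁ (IsLocalRing.residue V₁ ⟨y, hyV⟩)
    have hdiff : V₁.valuation ((y : K₁) - algebraMap A K₁ a) < 1 := by
      have h1 : IsLocalRing.residue V₁
          (⟨y, hyV⟩ - RingHom.codRestrict (algebraMap A K₁) V₁ hV₁.1 a) = 0 := by
        rw [map_sub, sub_eq_zero]; exact ha.symm
      rw [IsLocalRing.residue_eq_zero_iff, ValuationSubring.valuation_lt_one_iff] at h1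
      exact h1
    have hnu : ¬ IsUnit (y - algebraMap A C a) := (hnonunit _).mpr hdiff
    have hmemmax : y - algebraMap A C a ∈ maximalIdeal C := (IsLocalRing.mem_maximalIdeal _).mpr hnu
    rw [hmax, Ideal.mem_span_singleton] at hmemmax
    obtain ⟨y', hy'⟩ := hmemmax
    exact ⟨a, y', by rw [← hy']; ring⟩
  have he : 0 < e := by
    rcases Nat.eq_zero_or_pos e with rfl | h
    · exfalso; rw [pow_zero, mul_one] at hu; exact hπCnu (hu ▸ u.isUnit)
    · exact h
  have hN : (⊤ : Submodule A C) ≤ Submodule.span A (Set.range fun i : Fin e => ϖ ^ (i : ℕ)) := by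
    apply Submodule.le_of_le_smul_of_le_jacobson_bot (I := maximalIdeal A) Module.Finite.fg_top
      (IsLocalRing.maximalIdeal_le_jacobson _)
    intro y _
    obtain ⟨a, y', hy⟩ := exists_expansion ϖ hres e y
    rw [hy]
    refine Submodule.add_mem_sup ?_ ?_
    · refine Submodule.sum_mem _ fun i hi => ?_
      rw [← Algebra.smul_def]
      exact Submodule.smul_mem _ _ (Submodule.subset_span ⟨⟨i, Finset.mem_range.mp hi⟩, rfl⟩)
    · have h1 : ϖ ^ e * y' = π • (((u⁻¹ : Cˣ) : C) * y') := by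
        rw [Algebra.smul_def, ← hπC, hu]
        calc ϖ ^ e * y' = ((u : C) * ((u⁻¹ : Cˣ) : C)) * (ϖ ^ e * y') := by
              rw [Units.mul_inv, one_mul]
          _ = (u : C) * ϖ ^ e * (((u⁻¹ : Cˣ) : C) * y') := by ring
      rw [h1]
      exact Submodule.smul_mem_smul hπmem Submodule.mem_top
  have hvu : V₁.valuation ((u : C) : K₁) = 1 := by
    have h1 := (hnonunit (u : C)).not.mp (not_not.mpr u.isUnit)
    exact le_antisymm ((V₁.valuation_le_one_iff _).mpr ((hmem _).mpr (u : C).2)) (not_lt.mp h1)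
  have hπeq : algebraMap A K₁ π = ((u : C) : K₁) * (ϖ : K₁) ^ e := by
    have h1 : (πC : K₁) = ((u : C) : K₁) * (ϖ : K₁) ^ e := by
      rw [hu]; rfl
    rw [← hπCval]; exact h1
  have hvd : ValData K π V₁ (ϖ : K₁) e := by
    refine ⟨hπ, hV₁, he, ?_, (algebraMap K K₁).injective⟩
    rw [hπeq, map_mul, hvu, one_mul, map_pow]
  have hspan : ∀ x : K₁, ∃ c : Fin e → K,
      x = ∑ i, algebraMap K K₁ (c i) * (ϖ : K₁) ^ (i : ℕ) := by
    intro x
    have hxalg : IsAlgebraic A x :=
      (IsFractionRing.isAlgebraic_iff A K K₁).mpr (Algebra.IsAlgebraic.isAlgebraic x)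
    obtain ⟨y, hy0, hy⟩ := hxalg.exists_integral_multiple
    have hz := hN (Submodule.mem_top (x := (⟨y • x, hy⟩ : C)))
    rw [Submodule.mem_span_range_iff_exists_fun] at hz
    obtain ⟨c, hc⟩ := hz
    have hc' : ∑ i, algebraMap A K₁ (c i) * (ϖ : K₁) ^ (i : ℕ) = y • x := by
      have := congrArg Subtype.val hc
      simpa [Algebra.smul_def] using this
    have hyL0 : algebraMap A K₁ y ≠ 0 := fun h0 => hy0 (hinj (h0.trans (map_zero _).symm))
    refine ⟨fun i => algebraMap A K (c i) / algebraMap A K y, ?_⟩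
    have h2 : ∀ i : Fin e, algebraMap K K₁ (algebraMap A K (c i) / algebraMap A K y) *
        (ϖ : K₁) ^ (i : ℕ) = (algebraMap A K₁ y)⁻¹ * (algebraMap A K₁ (c i) * (ϖ : K₁) ^ (i : ℕ)) := by
      intro i
      rw [map_div₀, ← IsScalarTower.algebraMap_apply, ← IsScalarTower.algebraMap_apply]
      field_simp
    simp only [h2]
    rw [← Finset.mul_sum, hc', Algebra.smul_def, inv_mul_cancel_left₀ hyL0]
  have hfr : Module.finrank K K₁ = e := by
    have hli : LinearIndependent K (fun i : Fin e => (ϖ : K₁) ^ (i : ℕ)) := by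
      rw [Fintype.linearIndependent_iff]
      intro c hc i
      refine hvd.coeff_eq_zero c ?_ i
      simpa [Algebra.smul_def] using hc
    have hsp : ⊤ ≤ Submodule.span K (Set.range fun i : Fin e => (ϖ : K₁) ^ (i : ℕ)) := by
      intro x _
      obtain ⟨c, hc⟩ := hspan x
      rw [hc]
      refine Submodule.sum_mem _ fun i _ => ?_
      rw [← Algebra.smul_def]
      exact Submodule.smul_mem _ _ (Submodule.subset_span ⟨i, rfl⟩)
    rw [Module.finrank_eq_card_basis (Module.Basis.mk hli hsp), Fintype.card_fin]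
  have huinv : ((u : C) : K₁) * (((u⁻¹ : Cˣ) : C) : K₁) = 1 := by
    have h1 : (((u : C) * ((u⁻¹ : Cˣ) : C) : C) : K₁) = ((1 : C) : K₁) := by rw [Units.mul_inv]
    exact h1
  have hw0 : (((u⁻¹ : Cˣ) : C) : K₁) ≠ 0 := right_ne_zero_of_mul_eq_one huinv
  rw [hfr]
  refine ⟨ϖ, ((u⁻¹ : Cˣ) : C), ϖ.2, ((u⁻¹ : Cˣ) : C).2, ?_, hw0, ?_, hspan⟩
  · have : (((u⁻¹ : Cˣ) : C) : K₁)⁻¹ = ((u : C) : K₁) := by
      exact (eq_inv_of_mul_eq_one_left huinv).symm
    rw [this]; exact (u : C).2
  · rw [hπeq]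
    calc (ϖ : K₁) ^ e = (((u : C) : K₁) * (((u⁻¹ : Cˣ) : C) : K₁)) * (ϖ : K₁) ^ e := by
          rw [huinv, one_mul]
      _ = ((u : C) : K₁) * (ϖ : K₁) ^ e * (((u⁻¹ : Cˣ) : C) : K₁) := by ring

end Struct

end Groth.Agent.Lib.Helper18.Eis
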