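import Mathlib
import Groth.Agent.Lib.Helper18.Eis.TotRam

/-! # A common extension of two valuation rings over a discrete valuation ring -/

set_option autoImplicit false
set_option linter.style.haveILetI false

namespace Groth.Agent.Lib.Helper18.Eis

open IsLocalRing TensorProduct

universe u

theorem exists_valuationSubring_of_prime {R M : Type*} [CommRing R] [Field M] (φ : R →+* M)
    (𝔮 : Ideal R) [h𝔮 : 𝔮.IsPrime] (hker : RingHom.ker φ ≤ 𝔮) :
    ∃ W : ValuationSubring M, (∀ r, φ r ∈ W) ∧ ∀ r ∈ 𝔮, W.valuation (φ r) < 1 := by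
  let A : Subring M := φ.range
  let I : Ideal A := Ideal.map φ.rangeRestrict 𝔮
  have hI : I ≠ ⊤ := by
    intro h
    have h1 : (1 : A) ∈ I := by rw [h]; trivial
    rw [Ideal.mem_map_iff_of_surjective _ φ.rangeRestrict_surjective] at h1
    obtain ⟨q, hq, hq1⟩ := h1
    have h2 : φ q = 1 := congrArg Subtype.val hq1
    have h3 : 1 - q ∈ RingHom.ker φ := by rw [RingHom.mem_ker, map_sub, map_one, h2, sub_self]
    have h4 : (1 : R) ∈ 𝔮 := by
      have := 𝔮.add_mem (hker h3) hq
      simpa using this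
    exact h𝔮.ne_top ((Ideal.eq_top_iff_one _).mpr h4)
  obtain ⟨W, hAW, hIW⟩ := Ideal.image_subset_nonunits_valuationSubring I hI
  refine ⟨W, fun r => hAW ⟨r, rfl⟩, fun r hr => ?_⟩
  have : φ r ∈ W.nonunits := hIW ⟨φ.rangeRestrict r, Ideal.mem_map_of_mem _ hr, rfl⟩
  exact (ValuationSubring.mem_nonunits_iff ..).mp this


section Common

variable {B C L M₀ M' : Type u} [CommRing B] [IsDomain B] [IsDiscreteValuationRing B]
  [CommRing C] [IsDomain C] [IsDiscreteValuationRing C] [Algebra B C] [IsLocalHom (algebraMap B C)]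
  [Field L] [Field M₀] [Field M'] [Algebra B L] [IsFractionRing B L] [Algebra C M₀]
  [IsFractionRing C M₀] [Algebra L M₀] [Algebra B M₀] [IsScalarTower B C M₀]
  [IsScalarTower B L M₀] [Algebra L M'] [Algebra.IsAlgebraic L M']

theorem exists_common_extension (hinj : Function.Injective (algebraMap B C))
    (W' : ValuationSubring M')
    (hW' : EtRam.Dominates B ((algebraMap L M').comp (algebraMap B L)) W') :
    ∃ (M : Type u) (_ : Field M) (j : M' →+* M) (j₀ : M₀ →+* M) (W : ValuationSubring M),
      j.comp (algebraMap L M') = j₀.comp (algebraMap L M₀) ∧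
      EtRam.Dominates C (j₀.comp (algebraMap C M₀)) W ∧ W.comap j = W' ∧
      ∀ S : Subring M, (∀ x, j x ∈ S) → (∀ y, j₀ y ∈ S) → (∀ s ∈ S, s⁻¹ ∈ S) → S = ⊤ := by
  set g : B →+* M' := (algebraMap L M').comp (algebraMap B L) with hg
  have hginj : Function.Injective g :=
    (algebraMap L M').injective.comp (IsFractionRing.injective B L)
  letI algBW : Algebra B W' := (RingHom.codRestrict g W' hW'.1).toAlgebra
  have halg : ∀ b : B, ((algebraMap B W' b : W') : M') = g b := fun _ => rfl
  haveI : Module.IsTorsionFree B W' := by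
    rw [Module.isTorsionFree_iff_smul_eq_zero]
    intro b w hbw
    have h1 : g b * (w : M') = 0 := by
      have := congrArg Subtype.val hbw
      rwa [Algebra.smul_def] at this
    rcases mul_eq_zero.mp h1 with h | h
    · left; exact hginj (h.trans (map_zero g).symm)
    · right; exact Subtype.ext h
  haveI : Module.Flat B W' := inferInstance
  haveI : Module.Flat C (C ⊗[B] W') := Module.Flat.baseChange B C W'
  haveI : IsLocalHom (algebraMap B W') := by
    constructor
    intro b hb
    by_contra hnu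
    have hbm : b ∈ maximalIdeal B := (IsLocalRing.mem_maximalIdeal _).mpr hnu
    have h1 := hW'.2 b hbm
    have h2 : algebraMap B W' b ∈ maximalIdeal W' := by
      rw [W'.valuation_lt_one_iff]; exact h1
    exact (IsLocalRing.mem_maximalIdeal _).mp h2 hb
  haveI : Module.IsTorsionFree B C := by
    rw [Module.isTorsionFree_iff_smul_eq_zero]
    intro b c hbc
    rw [Algebra.smul_def] at hbc
    rcases mul_eq_zero.mp hbc with h | h
    · left; exact hinj (h.trans (map_zero _).symm)
    · right; exact h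
  haveI : Module.Flat B C := inferInstance
  haveI : Module.Flat W' (W' ⊗[B] C) := Module.Flat.baseChange B W' C
  -- the residue field tensor product
  let T := ResidueField C ⊗[ResidueField B] ResidueField W'
  haveI : Nontrivial T := inferInstance
  let fC : C →+* T := (Algebra.TensorProduct.includeLeftRingHom).comp (residue C)
  let fW : W' →+* T :=
    (Algebra.TensorProduct.includeRight :
      ResidueField W' →ₐ[ResidueField B] T).toRingHom.comp (residue W')
  letI : Algebra B T := (fC.comp (algebraMap B C)).toAlgebra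
  let fCa : C →ₐ[B] T := { fC with commutes' := fun b => rfl }
  let fWa : W' →ₐ[B] T :=
    { fW with
      commutes' := fun b => by
        show (1 : ResidueField C) ⊗ₜ[ResidueField B] residue W' (algebraMap B W' b)
          = residue C (algebraMap B C b) ⊗ₜ[ResidueField B] (1 : ResidueField W')
        rw [← ResidueField.algebraMap_residue, ← ResidueField.algebraMap_residue (R := B) (S := C),
          Algebra.algebraMap_eq_smul_one, Algebra.algebraMap_eq_smul_one, TensorProduct.smul_tmul] }
  let ρ : C ⊗[B] W' →ₐ[B] T := Algebra.TensorProduct.productMap fCa fWa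
  have hρC : ∀ c : C, ρ (c ⊗ₜ 1) = fC c := fun c => by
    simp [ρ, fCa, fWa, Algebra.TensorProduct.productMap_apply_tmul]
  have hρW : ∀ w : W', ρ (1 ⊗ₜ w) = fW w := fun w => by
    simp [ρ, fCa, fWa, Algebra.TensorProduct.productMap_apply_tmul]
  obtain ⟨𝔪, h𝔪⟩ := Ideal.exists_maximal T
  let 𝔮 : Ideal (C ⊗[B] W') := Ideal.comap ρ.toRingHom 𝔪
  haveI h𝔮 : 𝔮.IsPrime := Ideal.comap_isPrime _ _
  have h𝔮C : ∀ c ∈ maximalIdeal C, (c ⊗ₜ[B] (1 : W')) ∈ 𝔮 := by
    intro c hc
    show ρ (c ⊗ₜ 1) ∈ 𝔪
    rw [hρC]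
    have : residue C c = 0 := (IsLocalRing.residue_eq_zero_iff _).mpr hc
    simp [fC, this]
  have h𝔮W : ∀ w ∈ maximalIdeal W', ((1 : C) ⊗ₜ[B] w) ∈ 𝔮 := by
    intro w hw
    show ρ (1 ⊗ₜ w) ∈ 𝔪
    rw [hρW]
    have : residue W' w = 0 := (IsLocalRing.residue_eq_zero_iff _).mpr hw
    simp [fW, this]
  obtain ⟨𝔭₀, h𝔭₀, hle⟩ := Ideal.exists_minimalPrimes_le (I := ⊥) (J := 𝔮) bot_le
  haveI h𝔭₀p : 𝔭₀.IsPrime := h𝔭₀.1.1
  have hdisj := Ideal.disjoint_nonZeroDivisors_of_mem_minimalPrimes (R := C ⊗[B] W') h𝔭₀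
  haveI : Module.IsTorsionFree C (C ⊗[B] W') := inferInstance
  haveI : Module.IsTorsionFree W' (W' ⊗[B] C) := inferInstance
  have hCnz : ∀ c : C, c ≠ 0 → (c ⊗ₜ[B] (1 : W')) ∉ 𝔭₀ := by
    intro c hc hmem
    refine Set.disjoint_left.mp hdisj hmem ?_
    rw [SetLike.mem_coe, mem_nonZeroDivisors_iff_right]
    intro r hr
    have h1 : c • r = 0 := by
      rw [Algebra.smul_def, mul_comm]; exact hr
    rcases (Module.isTorsionFree_iff_smul_eq_zero.mp inferInstance) c r h1 with h | h
    · exact absurd h hc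
    · exact h
  have hWnz : ∀ w : W', w ≠ 0 → ((1 : C) ⊗ₜ[B] w) ∉ 𝔭₀ := by
    intro w hw hmem
    refine Set.disjoint_left.mp hdisj hmem ?_
    rw [SetLike.mem_coe, mem_nonZeroDivisors_iff_right]
    intro r hr
    have h0 : Algebra.TensorProduct.comm B C W' (r * (1 ⊗ₜ w)) = 0 := by rw [hr, map_zero]
    rw [map_mul, Algebra.TensorProduct.comm_tmul] at h0
    have h1 : w • (Algebra.TensorProduct.comm B C W' r) = 0 := by
      rw [Algebra.smul_def, mul_comm]; exact h0
    rcases ((Module.isTorsionFree_iff_smul_eq_zero (R := W') (M := W' ⊗[B] C)).mp inferInstance) w _ h1 with h | h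
    · exact absurd h hw
    · exact (Algebra.TensorProduct.comm B C W').injective (h.trans (map_zero _).symm)
  -- the domain `D`, its fraction field and the two embeddings
  let D := (C ⊗[B] W') ⧸ 𝔭₀
  haveI : IsDomain D := Ideal.Quotient.isDomain 𝔭₀
  let M := FractionRing D
  let φ : C ⊗[B] W' →+* M := (algebraMap D M).comp (Ideal.Quotient.mk 𝔭₀)
  have hφ0 : ∀ r, φ r = 0 ↔ r ∈ 𝔭₀ := by
    intro r
    show algebraMap D M (Ideal.Quotient.mk 𝔭₀ r) = 0 ↔ _
    rw [map_eq_zero_iff _ (IsFractionRing.injective D M), Ideal.Quotient.eq_zero_iff_mem]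
  let gC : C →+* M := φ.comp (algebraMap C (C ⊗[B] W'))
  let gW : W' →+* M := φ.comp (Algebra.TensorProduct.includeRight : W' →ₐ[B] C ⊗[B] W').toRingHom
  have hgC : ∀ c, gC c = φ (c ⊗ₜ 1) := fun c => rfl
  have hgW : ∀ w, gW w = φ (1 ⊗ₜ w) := fun w => rfl
  have hgCinj : Function.Injective gC := by
    rw [injective_iff_map_eq_zero]
    intro c hc
    by_contra hne
    exact hCnz c hne ((hφ0 _).mp (by rw [← hgC]; exact hc))
  have hgWinj : Function.Injective gW := by
    rw [injective_iff_map_eq_zero]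
    intro w hw
    by_contra hne
    exact hWnz w hne ((hφ0 _).mp (by rw [← hgW]; exact hw))
  let j₀ : M₀ →+* M := IsFractionRing.lift (A := C) (K := M₀) hgCinj
  let j : M' →+* M := IsFractionRing.lift (A := W') (K := M') hgWinj
  have hj₀ : ∀ c : C, j₀ (algebraMap C M₀ c) = gC c := fun c => IsFractionRing.lift_algebraMap hgCinj c
  have hj : ∀ w : W', j (w : M') = gW w := fun w => IsFractionRing.lift_algebraMap hgWinj w
  have hker : RingHom.ker φ ≤ 𝔮 := fun r hr => hle ((hφ0 r).mp hr)
  obtain ⟨W, hW1, hW2⟩ := exists_valuationSubring_of_prime φ 𝔮 hker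
  refine ⟨M, inferInstance, j, j₀, W, ?_, ?_, ?_, ?_⟩
  · apply IsLocalization.ringHom_ext (nonZeroDivisors B)
    ext b
    show j (algebraMap L M' (algebraMap B L b)) = j₀ (algebraMap L M₀ (algebraMap B L b))
    have h1 : algebraMap L M' (algebraMap B L b) = ((algebraMap B W' b : W') : M') := rfl
    rw [h1, hj, ← IsScalarTower.algebraMap_apply B L M₀, IsScalarTower.algebraMap_apply B C M₀,
      hj₀, hgC, hgW]
    congr 1
    rw [Algebra.algebraMap_eq_smul_one, Algebra.algebraMap_eq_smul_one (A := C),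
      TensorProduct.smul_tmul]
  · refine ⟨fun c => ?_, fun c hc => ?_⟩
    · show j₀ (algebraMap C M₀ c) ∈ W
      rw [hj₀, hgC]; exact hW1 _
    · show W.valuation (j₀ (algebraMap C M₀ c)) < 1
      rw [hj₀, hgC]; exact hW2 _ (h𝔮C c hc)
  · ext x
    rw [ValuationSubring.mem_comap]
    constructor
    · intro hx
      by_contra hxW
      have hx0 : x ≠ 0 := fun h => hxW (h ▸ W'.zero_mem)
      have hv : 1 < W'.valuation x :=
        lt_of_not_ge (fun h => hxW ((W'.valuation_le_one_iff x).mp h))
      have hv' : W'.valuation x⁻¹ < 1 := by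
        rw [map_inv₀]; exact inv_lt_one_of_one_lt₀ hv
      have hinv : x⁻¹ ∈ W' := (W'.valuation_le_one_iff _).mp hv'.le
      have hy : (⟨x⁻¹, hinv⟩ : W') ∈ maximalIdeal W' := by
        rw [W'.valuation_lt_one_iff]; exact hv'
      have h1 := hW2 _ (h𝔮W _ hy)
      rw [← hgW, ← hj] at h1
      have h2 : j ((⟨x⁻¹, hinv⟩ : W') : M') = (j x)⁻¹ := map_inv₀ j x
      rw [h2, map_inv₀] at h1
      have h3 : W.valuation (j x) ≤ 1 := (W.valuation_le_one_iff _).mpr hx
      have hjx0 : j x ≠ 0 := (map_ne_zero j).mpr hx0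
      have h4 : 0 < W.valuation (j x) := by
        rw [pos_iff_ne_zero]; exact (Valuation.ne_zero_iff _).mpr hjx0
      exact absurd h1 (not_lt.mpr ((one_le_inv₀ h4).mpr h3))
    · intro hx
      have := hj ⟨x, hx⟩
      show j x ∈ W
      rw [this, hgW]; exact hW1 _
  · intro S hS1 hS2 hS3
    have hφS : ∀ r, φ r ∈ S := by
      intro r
      induction r using TensorProduct.induction_on with
      | zero => rw [map_zero]; exact S.zero_mem
      | tmul c w =>
        have : c ⊗ₜ[B] w = (c ⊗ₜ 1) * (1 ⊗ₜ w) := by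
          rw [Algebra.TensorProduct.tmul_mul_tmul, mul_one, one_mul]
        rw [this, map_mul, ← hgC, ← hgW, ← hj₀, ← hj]
        exact S.mul_mem (hS2 _) (hS1 _)
      | add a b ha hb => rw [map_add]; exact S.add_mem ha hb
    rw [eq_top_iff]
    intro m _
    obtain ⟨d₁, d₂, -, hd⟩ := IsFractionRing.div_surjective (A := D) m
    obtain ⟨r₁, rfl⟩ := Ideal.Quotient.mk_surjective d₁
    obtain ⟨r₂, rfl⟩ := Ideal.Quotient.mk_surjective d₂
    rw [← hd, div_eq_mul_inv]
    exact S.mul_mem (hφS r₁) (hS3 _ (hφS r₂))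

end Common

section Descend

theorem exists_mul_of_mem_map {V S : Type*} [CommRing V] [IsDomain V] [ValuationRing V]
    [CommRing S] (φ : V →+* S) (I : Ideal V) {x : S} (hx : x ∈ Ideal.map φ I) :
    ∃ a ∈ I, ∃ s : S, x = s * φ a := by
  unfold Ideal.map at hx
  induction hx using Submodule.span_induction with
  | mem x hx => obtain ⟨a, ha, rfl⟩ := hx; exact ⟨a, ha, 1, (one_mul _).symm⟩
  | zero => exact ⟨0, I.zero_mem, 0, by simp⟩
  | add x y _ _ hx hy =>
    obtain ⟨a, ha, s, rfl⟩ := hx
    obtain ⟨b, hb, t, rfl⟩ := hy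
    rcases ValuationRing.dvd_total a b with ⟨c, rfl⟩ | ⟨c, rfl⟩
    · exact ⟨a, ha, s + t * φ c, by rw [map_mul]; ring⟩
    · exact ⟨b, hb, s * φ c + t, by rw [map_mul]; ring⟩
  | smul r x _ hx =>
    obtain ⟨a, ha, s, rfl⟩ := hx
    exact ⟨a, ha, r * s, by rw [smul_eq_mul, mul_assoc]⟩

theorem mem_maximalIdeal_iff_inv_not_mem {K : Type*} [Field K] (V : ValuationSubring K) (a : V) :
    a ∈ maximalIdeal V ↔ (a : K) = 0 ∨ (a : K)⁻¹ ∉ V := by
  rw [V.valuation_lt_one_iff]
  by_cases h0 : (a : K) = 0
  · simp [h0]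
  · simp only [h0, false_or]
    have hpos : 0 < V.valuation (a : K) := by
      rw [pos_iff_ne_zero]; exact (Valuation.ne_zero_iff _).mpr h0
    rw [← V.valuation_le_one_iff, map_inv₀, not_le, one_lt_inv₀ hpos]

variable {K₁ M' M : Type u} [Field K₁] [Field M'] [Field M] (W : ValuationSubring M)
  (j : M' →+* M) (f' : K₁ →+* M')

theorem weaklyUnramified_descend
    (h : Ideal.map (EtRam.inclOfComap W (j.comp f')) (maximalIdeal (W.comap (j.comp f')))
      = maximalIdeal W) :
    Ideal.map (EtRam.inclOfComap (W.comap j) f') (maximalIdeal ((W.comap j).comap f'))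
      = maximalIdeal (W.comap j) := by
  apply le_antisymm
  · rw [Ideal.map_le_iff_le_comap]
    intro x hx
    rw [Ideal.mem_comap]
    rw [IsLocalRing.mem_maximalIdeal, mem_nonunits_iff] at hx ⊢
    exact fun hu => hx (isUnit_of_map_unit (EtRam.inclOfComap (W.comap j) f') x hu)
  · intro x hx
    have hx' : EtRam.inclOfComap W j x ∈ maximalIdeal W := by
      rw [IsLocalRing.mem_maximalIdeal, mem_nonunits_iff] at hx ⊢
      exact fun hu => hx (isUnit_of_map_unit (EtRam.inclOfComap W j) x hu)
    rw [← h] at hx'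
    obtain ⟨a, ha, s, hs⟩ := exists_mul_of_mem_map _ _ hx'
    have hs' : j (x : M') = (s : M) * j (f' (a : K₁)) := congrArg Subtype.val hs
    by_cases ha0 : (a : K₁) = 0
    · have : x = 0 := by
        apply Subtype.ext
        apply j.injective
        rw [hs', ha0, map_zero, map_zero, mul_zero]
        simp
      rw [this]; exact Ideal.zero_mem _
    · have hfa0 : f' (a : K₁) ≠ 0 := (map_ne_zero f').mpr ha0
      have hq : (x : M') / f' (a : K₁) ∈ W.comap j := by
        rw [ValuationSubring.mem_comap, map_div₀, hs', mul_div_assoc,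
          div_self ((map_ne_zero j).mpr hfa0), mul_one]
        exact s.2
      have ha' : (⟨(a : K₁), a.2⟩ : (W.comap j).comap f') ∈
          maximalIdeal ((W.comap j).comap f') := by
        rw [mem_maximalIdeal_iff_inv_not_mem] at ha ⊢
        exact ha
      have : x = ⟨(x : M') / f' (a : K₁), hq⟩ *
          EtRam.inclOfComap (W.comap j) f' ⟨(a : K₁), a.2⟩ := by
        apply Subtype.ext
        show (x : M') = (x : M') / f' a * f' a
        rw [div_mul_cancel₀ _ hfa0]
      rw [this]
      exact Ideal.mul_mem_left _ _ (Ideal.mem_map_of_mem _ ha')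

theorem geomRed_descend
    (h : @Algebra.IsGeometricallyReduced (ResidueField (W.comap (j.comp f'))) (ResidueField W) _ _
        (ResidueField.map (EtRam.inclOfComap W (j.comp f'))).toAlgebra) :
    @Algebra.IsGeometricallyReduced (ResidueField ((W.comap j).comap f'))
      (ResidueField (W.comap j)) _ _
        (ResidueField.map (EtRam.inclOfComap (W.comap j) f')).toAlgebra := by
  letI a1 : Algebra (ResidueField ((W.comap j).comap f')) (ResidueField (W.comap j)) :=
    (ResidueField.map (EtRam.inclOfComap (W.comap j) f')).toAlgebra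
  letI a2 : Algebra (ResidueField ((W.comap j).comap f')) (ResidueField W) :=
    (ResidueField.map (EtRam.inclOfComap W (j.comp f'))).toAlgebra
  haveI : Algebra.IsGeometricallyReduced (ResidueField ((W.comap j).comap f')) (ResidueField W) := h
  let g : ResidueField (W.comap j) →ₐ[ResidueField ((W.comap j).comap f')] ResidueField W :=
    { ResidueField.map (EtRam.inclOfComap W j) with
      commutes' := fun r => by
        obtain ⟨x, rfl⟩ := IsLocalRing.residue_surjective r
        show ResidueField.map (EtRam.inclOfComap W j)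
          (ResidueField.map (EtRam.inclOfComap (W.comap j) f') (residue _ x)) =
            ResidueField.map (EtRam.inclOfComap W (j.comp f')) (residue _ x)
        rw [ResidueField.map_residue, ResidueField.map_residue, ResidueField.map_residue]
        rfl }
  exact Algebra.IsGeometricallyReduced.of_injective g (RingHom.injective _)

end Descend

end Groth.Agent.Lib.Helper18.Eis
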