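import Groth.Agent.Lib.Helper18.Eis.TotRam

/-! # Valuation rings in which a power of an element has the value of the uniformizer -/

set_option autoImplicit false
set_option linter.style.haveILetI false

namespace Groth.Agent.Lib.Helper18.Eis

open IsLocalRing

universe u

variable {A K L : Type u} [CommRing A] [IsDomain A] [IsDiscreteValuationRing A] [Field K]
  [Algebra A K] [IsFractionRing A K] [Field L] [Algebra K L] [Algebra A L] [IsScalarTower A K L]

variable (K) in
/-- `V` dominates `A`, and `θ ^ q` has the value of the uniformizer `π` of `A`. -/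
structure ValData (π : A) (V : ValuationSubring L) (θ : L) (q : ℕ) : Prop where
  hπ : maximalIdeal A = Ideal.span {π}
  hV : EtRam.Dominates A (algebraMap A L) V
  hq : 0 < q
  hpow : V.valuation θ ^ q = V.valuation (algebraMap A L π)
  hK : Function.Injective (algebraMap K L)

namespace ValData

variable {π : A} {V : ValuationSubring L} {θ : L} {q : ℕ} (h : ValData K π V θ q)
include h

theorem pi_mem : π ∈ maximalIdeal A := by rw [h.hπ]; exact Ideal.mem_span_singleton_self π

theorem pi_ne_zero : π ≠ 0 :=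
  ((IsDiscreteValuationRing.irreducible_iff_uniformizer π).mpr h.hπ).ne_zero

theorem piL_ne_zero : algebraMap A L π ≠ 0 := fun h0 =>
  h.pi_ne_zero (algebraMap_injective' A K L (h0.trans (map_zero _).symm))

theorem val_pi_lt : V.valuation (algebraMap A L π) < 1 := h.hV.2 π h.pi_mem

theorem val_lt : V.valuation θ < 1 := by
  by_contra hge
  rw [not_lt] at hge
  have h1 : 1 ≤ V.valuation θ ^ q := one_le_pow₀ hge
  rw [h.hpow] at h1
  exact absurd h.val_pi_lt (not_lt.mpr h1)

theorem val_ne_zero : V.valuation θ ≠ 0 := by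
  intro h0
  have := h.hpow
  rw [h0, zero_pow h.hq.ne'] at this
  exact (Valuation.ne_zero_iff _).mpr h.piL_ne_zero this.symm

theorem mem : θ ∈ V := (V.valuation_le_one_iff _).mp h.val_lt.le

theorem val_term {c : K} (hc : c ≠ 0) (i : ℕ) :
    ∃ m : ℤ, V.valuation (algebraMap K L c * θ ^ i) = V.valuation θ ^ ((q : ℤ) * m + i) ∧
      (0 ≤ m → c ∈ Set.range (algebraMap A K)) := by
  obtain ⟨m, hm, hmA⟩ := val_algebraMap_K π h.hπ V h.hV hc
  refine ⟨m, ?_, hmA⟩
  rw [map_mul, hm, map_pow, ← h.hpow, ← zpow_natCast (V.valuation θ) q,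
    ← zpow_mul, ← zpow_natCast (V.valuation θ) i, ← zpow_add₀ h.val_ne_zero]

theorem distinct (c : Fin q → K) (i j : Fin q) (hij : i ≠ j)
    (hzi : algebraMap K L (c i) * θ ^ (i : ℕ) ≠ 0) (hzj : algebraMap K L (c j) * θ ^ (j : ℕ) ≠ 0) :
    V.valuation (algebraMap K L (c i) * θ ^ (i : ℕ)) ≠
      V.valuation (algebraMap K L (c j) * θ ^ (j : ℕ)) := by
  intro heq
  have hθpos : 0 < V.valuation θ := zero_lt_iff.mpr h.val_ne_zero
  have hci : c i ≠ 0 := by
    intro h0; apply hzi; rw [h0, map_zero, zero_mul]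
  have hcj : c j ≠ 0 := by
    intro h0; apply hzj; rw [h0, map_zero, zero_mul]
  obtain ⟨m, hm, -⟩ := h.val_term hci i
  obtain ⟨m', hm', -⟩ := h.val_term hcj j
  rw [hm, hm'] at heq
  have heq' := zpow_right_injective₀ hθpos h.val_lt.ne heq
  have hi : ((i : ℕ) : ℤ) < q := by exact_mod_cast i.2
  have hj : ((j : ℕ) : ℤ) < q := by exact_mod_cast j.2
  have h1 : ((q : ℤ) * m + (i : ℕ)) % q = (i : ℕ) := by
    rw [add_comm, Int.add_mul_emod_self_left, Int.emod_eq_of_lt (by positivity) hi]
  have h2 : ((q : ℤ) * m' + (j : ℕ)) % q = (j : ℕ) := by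
    rw [add_comm, Int.add_mul_emod_self_left, Int.emod_eq_of_lt (by positivity) hj]
  rw [heq', h2] at h1
  exact hij (Fin.ext (by exact_mod_cast h1.symm))

/-- Every term of a combination of `1, θ, …, θ ^ (q - 1)` has value at most the value of the sum. -/
theorem val_term_le (c : Fin q → K) (i : Fin q) :
    V.valuation (algebraMap K L (c i) * θ ^ (i : ℕ)) ≤
      V.valuation (∑ j : Fin q, algebraMap K L (c j) * θ ^ (j : ℕ)) :=
  val_le_sum_of_distinct V.valuation Finset.univ
    (fun i : Fin q => algebraMap K L (c i) * θ ^ (i : ℕ))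
    (fun i _ j _ hij hzi hzj => h.distinct c i j hij hzi hzj) i (Finset.mem_univ i)

theorem coeff_eq_zero (c : Fin q → K) (h0 : ∑ j : Fin q, algebraMap K L (c j) * θ ^ (j : ℕ) = 0)
    (i : Fin q) : c i = 0 := by
  have h1 := h.val_term_le c i
  rw [h0, map_zero, le_zero_iff, Valuation.zero_iff, mul_eq_zero] at h1
  rcases h1 with h1 | h1
  · exact (algebraMap K L).injective (h1.trans (map_zero _).symm)
  · have hθ0 : θ ≠ 0 := (Valuation.ne_zero_iff _).mp h.val_ne_zero
    exact absurd h1 (pow_ne_zero _ hθ0)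

theorem sum_mem_iff (c : Fin q → K) :
    (∑ j : Fin q, algebraMap K L (c j) * θ ^ (j : ℕ)) ∈ V ↔
      ∀ i, c i ∈ Set.range (algebraMap A K) := by
  have hθpos : 0 < V.valuation θ := zero_lt_iff.mpr h.val_ne_zero
  have hθlt := h.val_lt
  have hqpos : (0 : ℤ) < q := by exact_mod_cast h.hq
  constructor
  · intro hxV i
    have h1 : V.valuation (algebraMap K L (c i) * θ ^ (i : ℕ)) ≤ 1 :=
      (h.val_term_le c i).trans ((V.valuation_le_one_iff _).mpr hxV)
    by_cases hc : c i = 0
    · exact ⟨0, by rw [hc, map_zero]⟩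
    obtain ⟨m, hm, hmA⟩ := h.val_term hc i
    apply hmA
    rw [hm, zpow_le_one_iff_right_of_lt_one₀ hθpos hθlt] at h1
    by_contra hneg
    rw [not_le] at hneg
    have hi : ((i : ℕ) : ℤ) < q := by exact_mod_cast i.2
    nlinarith [mul_le_mul_of_nonneg_left (show m ≤ -1 by omega) hqpos.le]
  · intro hx
    refine sum_mem fun i _ => ?_
    obtain ⟨a, ha⟩ := hx i
    rw [← ha, ← IsScalarTower.algebraMap_apply]
    exact mul_mem (h.hV.1 a) (pow_mem h.mem _)

theorem coeff_zero_mem_of_val_lt (a : Fin q → A)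
    (hlt : V.valuation (∑ j : Fin q, algebraMap A L (a j) * θ ^ (j : ℕ)) < 1) :
    a ⟨0, h.hq⟩ ∈ maximalIdeal A := by
  have h1 := h.val_term_le (fun j => algebraMap A K (a j)) ⟨0, h.hq⟩
  simp only [← IsScalarTower.algebraMap_apply, pow_zero, mul_one] at h1
  have h2 := lt_of_le_of_lt h1 hlt
  by_contra hnot
  have hu : IsUnit (a ⟨0, h.hq⟩) := by
    by_contra hnu
    exact hnot ((IsLocalRing.mem_maximalIdeal _).mpr hnu)
  obtain ⟨u, hu⟩ := hu
  rw [← hu, val_unit V h.hV u] at h2
  exact lt_irrefl _ h2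

end ValData

end Groth.Agent.Lib.Helper18.Eis
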