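import Groth.Agent.Lib.Helper18.Eis.TRStruct
import Mathlib.RingTheory.TensorProduct.Basic
import Mathlib.LinearAlgebra.Dimension.Constructions
import Mathlib.LinearAlgebra.FiniteDimensional.Lemmas

/-! # A totally ramified extension is a weak solution for a weakly unramified extension -/

set_option autoImplicit false
set_option linter.style.haveILetI false

namespace Groth.Agent.Lib.Helper18.Eis

open IsLocalRing TensorProduct

universe u

section Compat

theorem compat {A B : Type u} (K L : Type u) {K₁ M : Type u} [CommRing A] [CommRing B] [Algebra A B]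
    [Field K] [Field L] [Algebra A K] [Algebra B L] [Algebra K L] [Algebra A L]
    [IsScalarTower A K L] [IsScalarTower A B L]
    [Field K₁] [Algebra K K₁] [Algebra A K₁] [IsScalarTower A K K₁]
    [Field M] [Algebra K M] [Algebra L M] [Algebra K₁ M] [IsScalarTower K L M]
    [IsScalarTower K K₁ M] [Algebra B M] [IsScalarTower B L M] (a : A) :
    algebraMap K₁ M (algebraMap A K₁ a) = algebraMap B M (algebraMap A B a) := by
  rw [IsScalarTower.algebraMap_apply A K K₁, ← IsScalarTower.algebraMap_apply K K₁ M,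
    IsScalarTower.algebraMap_apply K L M, ← IsScalarTower.algebraMap_apply A K L,
    IsScalarTower.algebraMap_apply A B L, ← IsScalarTower.algebraMap_apply B L M]

theorem isIntegral_map {A B : Type u} (K L : Type u) {K₁ M : Type u} [CommRing A] [CommRing B]
    [Algebra A B]
    [Field K] [Field L] [Algebra A K] [Algebra B L] [Algebra K L] [Algebra A L]
    [IsScalarTower A K L] [IsScalarTower A B L]
    [Field K₁] [Algebra K K₁] [Algebra A K₁] [IsScalarTower A K K₁]
    [Field M] [Algebra K M] [Algebra L M] [Algebra K₁ M] [IsScalarTower K L M]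
    [IsScalarTower K K₁ M] [Algebra B M] [IsScalarTower B L M] {z : K₁} (hz : IsIntegral A z) :
    IsIntegral B (algebraMap K₁ M z) := by
  obtain ⟨p, hpm, hp⟩ := hz
  refine ⟨p.map (algebraMap A B), hpm.map _, ?_⟩
  rw [Polynomial.eval₂_map]
  have h1 : (algebraMap B M).comp (algebraMap A B) = (algebraMap K₁ M).comp (algebraMap A K₁) := by
    ext a
    exact (compat K L a).symm
  rw [h1, ← Polynomial.hom_eval₂, hp, map_zero]

end Compat

section Core

variable {A B K L K₁ : Type u} [CommRing A] [IsDomain A] [IsDiscreteValuationRing A]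
  [CommRing B] [IsDomain B] [IsDiscreteValuationRing B] [Algebra A B]
  [Field K] [Field L] [Algebra A K] [IsFractionRing A K] [Algebra B L] [IsFractionRing B L]
  [Algebra K L] [Algebra A L] [IsScalarTower A K L] [IsScalarTower A B L]
  [Field K₁] [Algebra K K₁] [Algebra A K₁] [IsScalarTower A K K₁]
  {M : Type u} [Field M] [Algebra K M] [Algebra L M] [Algebra K₁ M] [IsScalarTower K L M]
  [IsScalarTower K K₁ M] [Algebra B M] [IsScalarTower B L M]

variable (K) in
/-- The uniformizer data of a totally ramified extension. -/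
structure UData (π : A) (π₁ w₀ : K₁) (n : ℕ) : Prop where
  hπ : maximalIdeal A = Ideal.span {π}
  hn : 0 < n
  h1 : IsIntegral A π₁
  h2 : IsIntegral A w₀
  h3 : IsIntegral A w₀⁻¹
  h4 : w₀ ≠ 0
  hrel : π₁ ^ n = algebraMap A K₁ π * w₀
  hspan : ∀ x : K₁, ∃ c : Fin n → K, x = ∑ i, algebraMap K K₁ (c i) * π₁ ^ (i : ℕ)

namespace UData

variable {π : A} {π₁ w₀ : K₁} {n : ℕ} (d : UData K π π₁ w₀ n)
include d

theorem uniformizer_B (hw : EtRam.IsWeaklyUnramified A B) :
    maximalIdeal B = Ideal.span {algebraMap A B π} := by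
  rw [← hw, d.hπ, Ideal.map_span, Set.image_singleton]

theorem valData (hw : EtRam.IsWeaklyUnramified A B) (W : ValuationSubring M)
    (hW : EtRam.Dominates B (algebraMap B M) W) :
    ValData L (algebraMap A B π) W (algebraMap K₁ M π₁) n := by
  refine ⟨d.uniformizer_B hw, hW, d.hn, ?_, (algebraMap L M).injective⟩
  have hω0 : algebraMap K₁ M w₀ ≠ 0 := (map_ne_zero _).mpr d.h4
  have hω : W.valuation (algebraMap K₁ M w₀) = 1 := by
    have h2 : algebraMap K₁ M w₀ ∈ W := mem_of_isIntegral W hW.1 (isIntegral_map K L d.h2)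
    have h3 : algebraMap K₁ M w₀⁻¹ ∈ W := mem_of_isIntegral W hW.1 (isIntegral_map K L d.h3)
    apply le_antisymm ((W.valuation_le_one_iff _).mpr h2)
    have h4 := (W.valuation_le_one_iff _).mpr h3
    rw [map_inv₀, map_inv₀] at h4
    exact (inv_le_one₀ (zero_lt_iff.mpr ((Valuation.ne_zero_iff _).mpr hω0))).mp h4
  calc W.valuation (algebraMap K₁ M π₁) ^ n
      = W.valuation (algebraMap K₁ M (π₁ ^ n)) := by rw [map_pow, map_pow]
    _ = W.valuation (algebraMap B M (algebraMap A B π)) := by
        rw [d.hrel, map_mul, map_mul, compat (A := A) (B := B) K L π, hω, mul_one]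

theorem span_M (hgen : Algebra.adjoin L (Set.range (algebraMap K₁ M)) = ⊤) (x : M) :
    ∃ c : Fin n → L, x = ∑ i, algebraMap L M (c i) * (algebraMap K₁ M π₁) ^ (i : ℕ) := by
  have hx : x ∈ Subalgebra.toSubmodule (Algebra.adjoin L (Set.range (algebraMap K₁ M))) := by
    rw [hgen]; trivial
  rw [Algebra.adjoin_eq_span] at hx
  have h0 : Set.range (algebraMap K₁ M) = ((algebraMap K₁ M).range.toSubmonoid : Set M) := by
    ext y; simp
  rw [h0, Submonoid.closure_eq] at hx
  induction hx using Submodule.span_induction with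
  | mem y hy =>
    obtain ⟨k, rfl⟩ := hy
    obtain ⟨c, hc⟩ := d.hspan k
    refine ⟨fun i => algebraMap K L (c i), ?_⟩
    conv_lhs => rw [hc]
    rw [map_sum]
    refine Finset.sum_congr rfl fun i _ => ?_
    rw [map_mul, map_pow, ← IsScalarTower.algebraMap_apply K K₁ M,
      IsScalarTower.algebraMap_apply K L M]
  | zero => exact ⟨0, by simp⟩
  | add y z _ _ hy hz =>
    obtain ⟨c, hc⟩ := hy
    obtain ⟨c', hc'⟩ := hz
    refine ⟨c + c', ?_⟩
    rw [hc, hc', ← Finset.sum_add_distrib]
    refine Finset.sum_congr rfl fun i _ => ?_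
    rw [Pi.add_apply, map_add, add_mul]
  | smul l y _ hy =>
    obtain ⟨c, hc⟩ := hy
    refine ⟨fun i => l * c i, ?_⟩
    rw [hc, Algebra.smul_def, Finset.mul_sum]
    refine Finset.sum_congr rfl fun i _ => ?_
    rw [map_mul, mul_assoc]

theorem finrank_M (hw : EtRam.IsWeaklyUnramified A B)
    (hgen : Algebra.adjoin L (Set.range (algebraMap K₁ M)) = ⊤) (W : ValuationSubring M)
    (hW : EtRam.Dominates B (algebraMap B M) W) : Module.finrank L M = n := by
  have hvd := d.valData (L := L) hw W hW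
  have hli : LinearIndependent L (fun i : Fin n => (algebraMap K₁ M π₁) ^ (i : ℕ)) := by
    rw [Fintype.linearIndependent_iff]
    intro c hc i
    refine hvd.coeff_eq_zero c ?_ i
    simpa [Algebra.smul_def] using hc
  have hsp : ⊤ ≤ Submodule.span L (Set.range fun i : Fin n => (algebraMap K₁ M π₁) ^ (i : ℕ)) := by
    intro x _
    obtain ⟨c, hc⟩ := d.span_M hgen x
    rw [hc]
    refine Submodule.sum_mem _ fun i _ => ?_
    rw [← Algebra.smul_def]
    exact Submodule.smul_mem _ _ (Submodule.subset_span ⟨i, rfl⟩)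
  rw [Module.finrank_eq_card_basis (Module.Basis.mk hli hsp), Fintype.card_fin]

theorem map_maximalIdeal_eq (hw : EtRam.IsWeaklyUnramified A B)
    (hgen : Algebra.adjoin L (Set.range (algebraMap K₁ M)) = ⊤) (W : ValuationSubring M)
    (hW : EtRam.Dominates B (algebraMap B M) W) :
    (maximalIdeal (W.comap (algebraMap K₁ M))).map (EtRam.inclOfComap W (algebraMap K₁ M)) =
      maximalIdeal W := by
  have hvd := d.valData (L := L) hw W hW
  set f := algebraMap K₁ M with hf
  set θ := f π₁ with hθ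
  apply le_antisymm
  · rw [Ideal.map_le_iff_le_comap]
    intro x hx
    rw [Ideal.mem_comap, IsLocalRing.mem_maximalIdeal, mem_nonunits_iff]
    rw [IsLocalRing.mem_maximalIdeal, mem_nonunits_iff] at hx
    intro hu
    exact hx (isUnit_of_map_unit (EtRam.inclOfComap W f) x hu)
  · intro x hx
    have hxv : W.valuation (x : M) < 1 := (W.valuation_lt_one_iff x).mp hx
    obtain ⟨c, hc⟩ := d.span_M hgen (x : M)
    have hcB : ∀ i, c i ∈ Set.range (algebraMap B L) := (hvd.sum_mem_iff c).mp (hc ▸ x.2)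
    choose b hb using hcB
    have hc' : (x : M) = ∑ i : Fin n, algebraMap B M (b i) * θ ^ (i : ℕ) := by
      rw [hc]
      refine Finset.sum_congr rfl fun i _ => ?_
      rw [← hb i, ← IsScalarTower.algebraMap_apply]
    have hb0 : b ⟨0, d.hn⟩ ∈ maximalIdeal B := hvd.coeff_zero_mem_of_val_lt b (hc' ▸ hxv)
    rw [d.uniformizer_B hw, Ideal.mem_span_singleton] at hb0
    obtain ⟨b', hb'⟩ := hb0
    have hθlt := hvd.val_lt
    have hθ0 : θ ≠ 0 := (Valuation.ne_zero_iff _).mp hvd.val_ne_zero
    have hxθ : W.valuation (x : M) ≤ W.valuation θ := by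
      rw [hc']
      apply Valuation.map_sum_le
      intro i _
      by_cases hi : (i : ℕ) = 0
      · have hi' : i = ⟨0, d.hn⟩ := Fin.ext hi
        rw [hi', pow_zero, mul_one, hb', map_mul, map_mul, ← hvd.hpow]
        calc W.valuation θ ^ n * W.valuation (algebraMap B M b')
            ≤ W.valuation θ ^ n * 1 :=
              mul_le_mul' le_rfl ((W.valuation_le_one_iff _).mpr (hW.1 b'))
          _ = W.valuation θ ^ n := mul_one _
          _ ≤ W.valuation θ := pow_le_of_le_one zero_le' hθlt.le d.hn.ne'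
      · rw [map_mul, map_pow]
        calc W.valuation (algebraMap B M (b i)) * W.valuation θ ^ (i : ℕ)
            ≤ 1 * W.valuation θ ^ (i : ℕ) :=
              mul_le_mul' ((W.valuation_le_one_iff _).mpr (hW.1 (b i))) le_rfl
          _ = W.valuation θ ^ (i : ℕ) := one_mul _
          _ ≤ W.valuation θ := pow_le_of_le_one zero_le' hθlt.le hi
    have hyW : (x : M) * θ⁻¹ ∈ W := by
      rw [← W.valuation_le_one_iff, map_mul, map_inv₀, ← div_eq_mul_inv]
      exact (div_le_one₀ (zero_lt_iff.mpr hvd.val_ne_zero)).mpr hxθ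
    have hπ₁mem : π₁ ∈ W.comap f := hvd.mem
    have hπ₁max : (⟨π₁, hπ₁mem⟩ : W.comap f) ∈ maximalIdeal (W.comap f) := by
      rw [IsLocalRing.mem_maximalIdeal, mem_nonunits_iff]
      intro hu
      have hu' : IsUnit (EtRam.inclOfComap W f ⟨π₁, hπ₁mem⟩) := hu.map _
      have hmem : EtRam.inclOfComap W f ⟨π₁, hπ₁mem⟩ ∈ maximalIdeal W := by
        rw [W.valuation_lt_one_iff]
        exact hθlt
      exact (IsLocalRing.mem_maximalIdeal _).mp hmem hu'
    have hxy : x = EtRam.inclOfComap W f ⟨π₁, hπ₁mem⟩ * ⟨(x : M) * θ⁻¹, hyW⟩ := by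
      apply Subtype.ext
      show (x : M) = θ * ((x : M) * θ⁻¹)
      field_simp
    rw [hxy]
    exact Ideal.mul_mem_right _ _ (Ideal.mem_map_of_mem _ hπ₁max)

end UData

end Core

section Main

variable (A B K L : Type u) [CommRing A] [IsDomain A] [IsDiscreteValuationRing A]
  [CommRing B] [IsDomain B] [IsDiscreteValuationRing B] [Algebra A B]
  [Field K] [Field L] [Algebra A K] [IsFractionRing A K] [Algebra B L] [IsFractionRing B L]
  [Algebra K L] [Algebra A L] [IsScalarTower A K L] [IsScalarTower A B L]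

theorem weakSolution_of_totallyRamified (hw : EtRam.IsWeaklyUnramified A B) (K₁ : Type u)
    [Field K₁] [Algebra K K₁] [FiniteDimensional K K₁] [Algebra.IsSeparable K K₁]
    [Algebra A K₁] [IsScalarTower A K K₁]
    (ht : EtRam.IsTotallyRamified A (algebraMap A K₁)) :
    IsField (L ⊗[K] K₁) ∧ EtRam.IsWeakSolution B K L K₁ := by
  obtain ⟨π, hπirr⟩ := IsDiscreteValuationRing.exists_irreducible A
  have hπ := hπirr.maximalIdeal_eq
  obtain ⟨π₁, w₀, h1, h2, h3, h4, hrel, hspan⟩ := exists_uniformizer_data (K := K) ht π hπ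
  have d : UData K π π₁ w₀ (Module.finrank K K₁) :=
    ⟨hπ, Module.finrank_pos, h1, h2, h3, h4, hrel, hspan⟩
  constructor
  · have hfrT : Module.finrank L (L ⊗[K] K₁) = Module.finrank K K₁ := Module.finrank_baseChange
    haveI : Nontrivial (L ⊗[K] K₁) :=
      Module.nontrivial_of_finrank_pos (R := L) (by rw [hfrT]; exact Module.finrank_pos)
    obtain ⟨𝔪, h𝔪⟩ := Ideal.exists_maximal (L ⊗[K] K₁)
    letI : Field ((L ⊗[K] K₁) ⧸ 𝔪) := Ideal.Quotient.field 𝔪
    letI : Algebra K₁ ((L ⊗[K] K₁) ⧸ 𝔪) :=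
      ((Ideal.Quotient.mk 𝔪).comp
        (Algebra.TensorProduct.includeRight : K₁ →ₐ[K] L ⊗[K] K₁).toRingHom).toAlgebra
    haveI : IsScalarTower K K₁ ((L ⊗[K] K₁) ⧸ 𝔪) := IsScalarTower.of_algebraMap_eq (fun k => by
      show Ideal.Quotient.mk 𝔪 (algebraMap K (L ⊗[K] K₁) k) =
        Ideal.Quotient.mk 𝔪 ((Algebra.TensorProduct.includeRight : K₁ →ₐ[K] L ⊗[K] K₁)
          (algebraMap K K₁ k))
      rw [AlgHom.commutes])
    haveI : IsScalarTower B L ((L ⊗[K] K₁) ⧸ 𝔪) := inferInstance
    have hgen : Algebra.adjoin L (Set.range (algebraMap K₁ ((L ⊗[K] K₁) ⧸ 𝔪))) = ⊤ := by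
      have key : ∀ t : L ⊗[K] K₁, Ideal.Quotient.mk 𝔪 t ∈
          Algebra.adjoin L (Set.range (algebraMap K₁ ((L ⊗[K] K₁) ⧸ 𝔪))) := by
        intro t
        induction t using TensorProduct.induction_on with
        | zero => rw [map_zero]; exact zero_mem _
        | tmul l k =>
          have : Ideal.Quotient.mk 𝔪 (l ⊗ₜ[K] k) =
              l • algebraMap K₁ ((L ⊗[K] K₁) ⧸ 𝔪) k := by
            show _ = l • Ideal.Quotient.mk 𝔪 ((1 : L) ⊗ₜ[K] k)
            rw [← Ideal.Quotient.mkₐ_eq_mk L, ← map_smul, TensorProduct.smul_tmul', smul_eq_mul,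
              mul_one]
          rw [this]
          exact Subalgebra.smul_mem _ (Algebra.subset_adjoin (Set.mem_range_self k)) l
        | add t t' ht ht' => rw [map_add]; exact add_mem ht ht'
      rw [eq_top_iff]
      intro x _
      obtain ⟨t, rfl⟩ := Ideal.Quotient.mk_surjective x
      exact key t
    obtain ⟨W, hW⟩ := exists_dominates B L ((L ⊗[K] K₁) ⧸ 𝔪)
    have hfrM := d.finrank_M hw hgen W hW
    have hinj : Function.Injective (Ideal.Quotient.mkₐ L 𝔪).toLinearMap :=
      (LinearMap.injective_iff_surjective_of_finrank_eq_finrank (hfrT.trans hfrM.symm)).mpr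
        (Ideal.Quotient.mkₐ_surjective L 𝔪)
    have hbot : 𝔪 = ⊥ := by
      rw [eq_bot_iff]
      intro t ht
      have h0 : (Ideal.Quotient.mkₐ L 𝔪).toLinearMap t = (Ideal.Quotient.mkₐ L 𝔪).toLinearMap 0 := by
        rw [map_zero]
        exact Ideal.Quotient.eq_zero_iff_mem.mpr ht
      exact hinj h0
    rw [Ring.isField_iff_maximal_bot, ← hbot]
    exact h𝔪
  · intro M _ _ _ _ _ _ hgen W hW
    letI : Algebra B M := ((algebraMap L M).comp (algebraMap B L)).toAlgebra
    haveI : IsScalarTower B L M := IsScalarTower.of_algebraMap_eq (fun _ => rfl)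
    exact d.map_maximalIdeal_eq hw hgen W hW

end Main

end Groth.Agent.Lib.Helper18.Eis
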